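import Mathlib.RingTheory.AdicCompletion.Exactness
import Mathlib.RingTheory.AdicCompletion.Algebra
import Mathlib.RingTheory.AdicCompletion.Functoriality

/-!
# Exactness of completion when the induced topology on the submodule is the adic one
-/

set_option autoImplicit false

namespace K84.AdicExact

universe u

variable {R : Type u} [CommRing R] (I : Ideal R) {M N P : Type u} [AddCommGroup M] [Module R M]
  [AddCommGroup N] [Module R N] [AddCommGroup P] [Module R P]
  {f : M →ₗ[R] N} {g : N →ₗ[R] P} (k : ℕ)
  (hk : ∀ (n : ℕ) (m : M), f m ∈ (I ^ (n + k) • ⊤ : Submodule R N) → m ∈ (I ^ n • ⊤ : Submodule R M))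

include hk in
theorem map_injective_of : Function.Injective (AdicCompletion.map I f) := by
  rw [← LinearMap.ker_eq_bot, LinearMap.ker_eq_bot']
  intro x
  apply AdicCompletion.induction_on I M x (fun a ↦ ?_)
  intro hx
  refine AdicCompletion.mk_zero_of _ _ _ ⟨0, fun n _ ↦ ⟨n + k, by omega, n, le_rfl, ?_⟩⟩
  apply hk
  simpa using congrArg (fun x ↦ x.val (n + k)) hx

include hk in
theorem map_exact_of (hfg : Function.Exact f g) (hg : Function.Surjective g) :
    Function.Exact (AdicCompletion.map I f) (AdicCompletion.map I g) := by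
  refine LinearMap.exact_of_comp_eq_zero_of_ker_le_range ?_ (fun y ↦ ?_)
  · rw [AdicCompletion.map_comp, hfg.linearMap_comp_eq_zero, AdicCompletion.map_zero]
  · apply AdicCompletion.induction_on I N y (fun b ↦ ?_)
    intro hz
    have hb (n : ℕ) : g (b n) ∈ (I ^ n • ⊤ : Submodule R P) := by
      simpa using congrArg (fun x ↦ x.val n) hz
    have h2 : ∀ n : ℕ, ∃ y : M, f y - b n ∈ (I ^ n • ⊤ : Submodule R N) := by
      intro n
      have h1 : g (b n) ∈ Submodule.map g (I ^ n • ⊤ : Submodule R N) := by
        rw [Submodule.map_smul'', Submodule.map_top, LinearMap.range_eq_top.mpr hg]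
        exact hb n
      obtain ⟨d, hdmem, hd⟩ := h1
      obtain ⟨y, hdy⟩ := (hfg (b n - d)).mp (by rw [map_sub, hd, sub_self])
      refine ⟨y, ?_⟩
      rw [hdy, sub_sub_cancel_left]
      exact Submodule.neg_mem _ hdmem
    choose y hy using h2
    have hcau : ∀ n, y (n + k) - y (n + 1 + k) ∈ (I ^ n • ⊤ : Submodule R M) := by
      intro n
      apply hk
      have h3 : b (n + k) - b (n + 1 + k) ∈ (I ^ (n + k) • ⊤ : Submodule R N) := by
        rw [← Submodule.Quotient.eq]
        exact AdicCompletion.AdicCauchySequence.mk_eq_mk (by omega) b |>.symm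
      have h4 : f (y (n + 1 + k)) - b (n + 1 + k) ∈ (I ^ (n + k) • ⊤ : Submodule R N) :=
        (Submodule.smul_mono_left (Ideal.pow_le_pow_right (by omega))) (hy (n + 1 + k))
      have h5 := Submodule.add_mem _ (Submodule.sub_mem _ (hy (n + k)) h4) h3
      rw [map_sub]
      convert h5 using 1
      abel
    refine ⟨AdicCompletion.mk I M (AdicCompletion.AdicCauchySequence.mk I M (fun n ↦ y (n + k)) ?_), ?_⟩
    · intro n
      rw [SModEq.sub_mem]
      exact hcau n
    · ext n
      suffices h : Submodule.Quotient.mk (p := (I ^ n • ⊤ : Submodule R N)) (f (y (n + k))) =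
            Submodule.Quotient.mk (p := (I ^ n • ⊤ : Submodule R N)) (b (n + k)) by
        simp [h, AdicCompletion.AdicCauchySequence.mk_eq_mk (show n ≤ n + k by omega)]
      rw [Submodule.Quotient.eq]
      exact (Submodule.smul_mono_left (Ideal.pow_le_pow_right (by omega))) (hy (n + k))

/-- bounded torsion of the quotient gives the Artin-Rees type hypothesis -/
theorem mem_of_bounded_torsion (a : R) (hf : Function.Injective f) (hfg : Function.Exact f g)
    (hbd : ∀ x : P, (∃ m : ℕ, a ^ m • x = 0) → a ^ k • x = 0) (n : ℕ) (m : M)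
    (hm : f m ∈ (Ideal.span {a} ^ (n + k) • ⊤ : Submodule R N)) :
    m ∈ (Ideal.span {a} ^ n • ⊤ : Submodule R M) := by
  rw [Ideal.span_singleton_pow, Submodule.ideal_span_singleton_smul] at hm ⊢
  obtain ⟨z, -, hz⟩ := (Submodule.mem_smul_pointwise_iff_exists _ _ _).mp hm
  have h1 : a ^ (n + k) • g z = 0 := by
    rw [← map_smul, hz]
    exact hfg.apply_apply_eq_zero m
  have h2 : g (a ^ k • z) = 0 := by
    rw [map_smul]
    exact hbd _ ⟨_, h1⟩
  obtain ⟨m', hm'⟩ := (hfg _).mp h2
  have h3 : m = a ^ n • m' := by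
    apply hf
    rw [map_smul, hm', ← hz, pow_add, mul_smul]
  rw [h3]
  exact Submodule.smul_mem_pointwise_smul _ _ _ trivial

end K84.AdicExact
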