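import Groth.Agent.Ega3A.FiberRank
import Mathlib.LinearAlgebra.TensorProduct.RightExactness
import Mathlib.LinearAlgebra.FiniteDimensional.Lemmas
import Mathlib.LinearAlgebra.FiniteDimensional.Basic

/-!
# The rank of a fibre map and the fibre rank of the cokernel
-/

set_option autoImplicit false

namespace K84.FibreRange

universe u

open TensorProduct Groth.Agent.Ega3A.FiberRank

variable {B : Type u} [CommRing B] {K K' : Type u} [AddCommGroup K] [Module B K]
  [AddCommGroup K'] [Module B K'] [Module.Finite B K'] (φ : K →ₗ[B] K')

theorem finrank_range_add_fiberRank_coker (y : PrimeSpectrum B) :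
    Module.finrank y.asIdeal.ResidueField (LinearMap.range (φ.baseChange y.asIdeal.ResidueField)) +
      fiberRank (K' ⧸ LinearMap.range φ) y = fiberRank K' y := by
  have hex : Function.Exact φ (LinearMap.range φ).mkQ := LinearMap.exact_map_mkQ_range φ
  have h1 : Function.Exact (φ.lTensor y.asIdeal.ResidueField)
      ((LinearMap.range φ).mkQ.lTensor y.asIdeal.ResidueField) :=
    lTensor_exact y.asIdeal.ResidueField hex (Submodule.mkQ_surjective _)
  have hsurj : Function.Surjective ((LinearMap.range φ).mkQ.baseChange y.asIdeal.ResidueField) :=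
    LinearMap.lTensor_surjective _ (Submodule.mkQ_surjective _)
  have h2 : LinearMap.ker ((LinearMap.range φ).mkQ.baseChange y.asIdeal.ResidueField) =
      LinearMap.range (φ.baseChange y.asIdeal.ResidueField) := by
    ext x
    rw [LinearMap.mem_ker, LinearMap.mem_range]
    exact h1 x
  have h3 := LinearMap.finrank_range_add_finrank_ker
    ((LinearMap.range φ).mkQ.baseChange y.asIdeal.ResidueField)
  rw [h2, LinearMap.range_eq_top.mpr hsurj, finrank_top] at h3
  unfold fiberRank
  rw [← h3, add_comm]

end K84.FibreRange
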