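import Mathlib.Algebra.MonoidAlgebra.NoZeroDivisors
import Mathlib.Algebra.MonoidAlgebra.MapDomain
import Mathlib.Algebra.Group.UniqueProds.Basic
import Mathlib.RingTheory.Ideal.Operations
import Mathlib.RingTheory.Ideal.Maps
import Mathlib.RingTheory.Nilpotent.Basic
import Mathlib.RingTheory.Nilpotent.Lemmas

/-!
# Units of group algebras `A[G]` and elements with coefficients in an ideal
-/

set_option autoImplicit false

namespace K84.GroupAlgUnits

open AddMonoidAlgebra

section Domain

variable {D G : Type*} [CommRing D] [IsDomain D] [AddCommGroup G] [TwoUniqueSums G]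

/-- Units of a group algebra over a domain are trivial. -/
theorem exists_single_of_mul_eq_one (f g : AddMonoidAlgebra D G) (h : f * g = 1) :
    ∃ (m : G) (c : D), c ≠ 0 ∧ f = single m c := by
  classical
  have hf0 : f.coeff.support.Nonempty := by
    rw [Finset.nonempty_iff_ne_empty, Ne, Finsupp.support_eq_empty, coeff_eq_zero]
    rintro rfl
    rw [zero_mul] at h
    exact zero_ne_one h
  have hg0 : g.coeff.support.Nonempty := by
    rw [Finset.nonempty_iff_ne_empty, Ne, Finsupp.support_eq_empty, coeff_eq_zero]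
    rintro rfl
    rw [mul_zero] at h
    exact zero_ne_one h
  have hkey : ∀ p ∈ f.coeff.support ×ˢ g.coeff.support,
      UniqueAdd f.coeff.support g.coeff.support p.1 p.2 → p.1 + p.2 = 0 := by
    intro p hp hu
    rw [Finset.mem_product] at hp
    have h1 := coeff_mul_add_of_uniqueAdd hu
    rw [h] at h1
    by_contra hne
    have h2 : (1 : AddMonoidAlgebra D G).coeff (p.1 + p.2) = 0 := by
      rw [one_def, coeff_single, Finsupp.single_apply, if_neg (Ne.symm hne)]
    rw [h2] at h1
    exact mul_ne_zero (Finsupp.mem_support_iff.mp hp.1) (Finsupp.mem_support_iff.mp hp.2) h1.symm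
  have hcard : ¬ 1 < f.coeff.support.card * g.coeff.support.card := by
    intro hlt
    obtain ⟨p1, hp1, p2, hp2, hne, hu1, hu2⟩ := TwoUniqueSums.uniqueAdd_of_one_lt_card hlt
    have h1 := hkey p1 hp1 hu1
    have h2 := hkey p2 hp2 hu2
    rw [Finset.mem_product] at hp1 hp2
    have h3 := hu1 hp2.1 hp2.2 (by rw [h1, h2])
    exact hne (Prod.ext h3.1.symm h3.2.symm)
  have hc1 : f.coeff.support.card = 1 := by
    have h1 := hf0.card_pos
    have h2 := hg0.card_pos
    nlinarith
  obtain ⟨m, hm⟩ := Finset.card_eq_one.mp hc1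
  refine ⟨m, f.coeff m, ?_, ?_⟩
  · exact Finsupp.mem_support_iff.mp (by rw [hm]; exact Finset.mem_singleton_self m)
  · ext n
    rw [coeff_single, Finsupp.single_apply]
    split_ifs with hmn
    · rw [hmn]
    · have : n ∉ f.coeff.support := by
        rw [hm, Finset.mem_singleton]
        exact fun h => hmn h.symm
      exact Finsupp.notMem_support_iff.mp this

end Domain

section Coeffs

variable {A : Type*} [CommRing A] {G H : Type*} [AddCommGroup G] [AddCommGroup H]

/-- All coefficients lie in the ideal `K`. -/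
def InK (K : Ideal A) (f : AddMonoidAlgebra A G) : Prop := ∀ m, f.coeff m ∈ K

variable {K K' : Ideal A} {f g : AddMonoidAlgebra A G}

omit [AddCommGroup G] in
theorem InK.mono (h : K ≤ K') (hf : InK K f) : InK K' f := fun m => h (hf m)

theorem InK.zero : InK K (0 : AddMonoidAlgebra A G) := fun m => by simp

theorem InK.add (hf : InK K f) (hg : InK K g) : InK K (f + g) := fun m => by
  rw [coeff_add, Finsupp.add_apply]
  exact K.add_mem (hf m) (hg m)

omit [AddCommGroup G] in
theorem InK.neg (hf : InK K f) : InK K (-f) := fun m => by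
  have : (-f).coeff m = -(f.coeff m) := rfl
  rw [this]
  exact K.neg_mem (hf m)

theorem InK.sub (hf : InK K f) (hg : InK K g) : InK K (f - g) := by
  rw [sub_eq_add_neg]
  exact hf.add hg.neg

theorem InK.mul (hf : InK K f) (hg : InK K' g) : InK (K * K') (f * g) := fun m => by
  classical
  rw [coeff_mul]
  refine Submodule.sum_mem _ fun a _ => Submodule.sum_mem _ fun b _ => ?_
  dsimp only
  split_ifs
  · exact Ideal.mul_mem_mul (hf a) (hg b)
  · exact Ideal.zero_mem _

theorem InK.mul_right (hf : InK K f) (g : AddMonoidAlgebra A G) : InK K (f * g) := by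
  have h1 : InK (⊤ : Ideal A) g := fun m => trivial
  have h2 := hf.mul h1
  rwa [Ideal.mul_top] at h2

theorem InK.mul_left (hf : InK K f) (g : AddMonoidAlgebra A G) : InK K (g * f) := by
  rw [mul_comm]
  exact hf.mul_right g

theorem InK.pow (hf : InK K f) (n : ℕ) : InK (K ^ n) (f ^ n) := by
  induction n with
  | zero =>
    rw [pow_zero, pow_zero, Ideal.one_eq_top]
    exact fun m => trivial
  | succ n ih =>
    rw [pow_succ, pow_succ]
    exact ih.mul hf

theorem InK.mapDomain (hf : InK K f) (φ : G →+ H) : InK K (mapDomainRingHom A φ f) := fun m => by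
  classical
  change (Finsupp.mapDomain φ f.coeff) m ∈ K
  rw [Finsupp.mapDomain, Finsupp.sum_apply]
  refine Submodule.sum_mem _ fun a _ => ?_
  dsimp only
  rw [Finsupp.single_apply]
  split_ifs
  · exact hf a
  · exact Ideal.zero_mem _

theorem InK.eq_zero (hf : InK (⊥ : Ideal A) f) : f = 0 := by
  ext m
  exact hf m

theorem InK.isUnit_one_add (hf : InK K f) (hK : IsNilpotent K) : IsUnit (1 + f) := by
  obtain ⟨n, hn⟩ := hK
  have h1 := hf.pow n
  rw [hn] at h1
  have h2 : IsNilpotent f := ⟨n, h1.eq_zero⟩
  exact IsNilpotent.isUnit_one_add h2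

/-- Coefficients of the image under an injective map. -/
theorem coeff_mapDomain (φ : G →+ H) (hφ : Function.Injective φ) (f : AddMonoidAlgebra A G) (w : H) (v : G)
    (P : Prop) [Decidable P] (h1 : P → φ v = w) (h2 : ¬ P → ∀ u, φ u ≠ w) :
    (mapDomainRingHom A φ f).coeff w = if P then f.coeff v else 0 := by
  change (Finsupp.mapDomain φ f.coeff) w = _
  split_ifs with hP
  · rw [← h1 hP, Finsupp.mapDomain_apply hφ]
  · refine Finsupp.mapDomain_of_notMem_range _ _ ?_
    rintro ⟨u, hu⟩
    exact h2 hP u hu

end Coeffs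

end K84.GroupAlgUnits
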