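import Groth.Agent.CAlg.K84.GroupAlgUnits
import Mathlib.LinearAlgebra.Matrix.ToLin
import Mathlib.LinearAlgebra.Matrix.Notation
import Mathlib.RingTheory.Nilpotent.Lemmas
import Mathlib.Tactic.FinCases
import Mathlib.Tactic.Ring
import Mathlib.Tactic.LinearCombination
import Mathlib.Tactic.Abel

/-!
# The cosimplicial group algebras of `ℤ^p` : coefficients of cofaces and the additive `H²`
-/

set_option autoImplicit false

namespace K84.LaurentCocycle

open AddMonoidAlgebra K84.GroupAlgUnits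

abbrev D1 : (Fin 2 → ℤ) →+ (Fin 3 → ℤ) :=
  (Matrix.mulVecLin (!![0, 0; 1, 0; 0, 1] : Matrix (Fin 3) (Fin 2) ℤ)).toAddMonoidHom
abbrev D2 : (Fin 2 → ℤ) →+ (Fin 3 → ℤ) :=
  (Matrix.mulVecLin (!![1, 0; 1, 0; 0, 1] : Matrix (Fin 3) (Fin 2) ℤ)).toAddMonoidHom
abbrev D3 : (Fin 2 → ℤ) →+ (Fin 3 → ℤ) :=
  (Matrix.mulVecLin (!![1, 0; 0, 1; 0, 1] : Matrix (Fin 3) (Fin 2) ℤ)).toAddMonoidHom
abbrev D4 : (Fin 2 → ℤ) →+ (Fin 3 → ℤ) :=
  (Matrix.mulVecLin (!![1, 0; 0, 1; 0, 0] : Matrix (Fin 3) (Fin 2) ℤ)).toAddMonoidHom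
abbrev E1 : (Fin 1 → ℤ) →+ (Fin 2 → ℤ) :=
  (Matrix.mulVecLin (!![0; 1] : Matrix (Fin 2) (Fin 1) ℤ)).toAddMonoidHom
abbrev E2 : (Fin 1 → ℤ) →+ (Fin 2 → ℤ) :=
  (Matrix.mulVecLin (!![1; 1] : Matrix (Fin 2) (Fin 1) ℤ)).toAddMonoidHom
abbrev E3 : (Fin 1 → ℤ) →+ (Fin 2 → ℤ) :=
  (Matrix.mulVecLin (!![1; 0] : Matrix (Fin 2) (Fin 1) ℤ)).toAddMonoidHom

theorem D1_apply (v : Fin 2 → ℤ) : D1 v = ![0, v 0, v 1] := by
  ext i; fin_cases i <;> simp [D1, Matrix.mulVec, dotProduct, Fin.sum_univ_two]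
theorem D2_apply (v : Fin 2 → ℤ) : D2 v = ![v 0, v 0, v 1] := by
  ext i; fin_cases i <;> simp [D2, Matrix.mulVec, dotProduct, Fin.sum_univ_two]
theorem D3_apply (v : Fin 2 → ℤ) : D3 v = ![v 0, v 1, v 1] := by
  ext i; fin_cases i <;> simp [D3, Matrix.mulVec, dotProduct, Fin.sum_univ_two]
theorem D4_apply (v : Fin 2 → ℤ) : D4 v = ![v 0, v 1, 0] := by
  ext i; fin_cases i <;> simp [D4, Matrix.mulVec, dotProduct, Fin.sum_univ_two]
theorem E1_apply (v : Fin 1 → ℤ) : E1 v = ![0, v 0] := by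
  ext i; fin_cases i <;> simp [E1, Matrix.mulVec, dotProduct]
theorem E2_apply (v : Fin 1 → ℤ) : E2 v = ![v 0, v 0] := by
  ext i; fin_cases i <;> simp [E2, Matrix.mulVec, dotProduct]
theorem E3_apply (v : Fin 1 → ℤ) : E3 v = ![v 0, 0] := by
  ext i; fin_cases i <;> simp [E3, Matrix.mulVec, dotProduct]

theorem D1_inj : Function.Injective D1 := by
  intro v w h
  rw [D1_apply, D1_apply] at h
  have h1 := congrFun h 1
  have h2 := congrFun h 2
  ext i; fin_cases i
  · exact h1
  · exact h2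
theorem D2_inj : Function.Injective D2 := by
  intro v w h
  rw [D2_apply, D2_apply] at h
  have h1 := congrFun h 1
  have h2 := congrFun h 2
  ext i; fin_cases i
  · exact h1
  · exact h2
theorem D3_inj : Function.Injective D3 := by
  intro v w h
  rw [D3_apply, D3_apply] at h
  have h1 := congrFun h 0
  have h2 := congrFun h 1
  ext i; fin_cases i
  · exact h1
  · exact h2
theorem D4_inj : Function.Injective D4 := by
  intro v w h
  rw [D4_apply, D4_apply] at h
  have h1 := congrFun h 0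
  have h2 := congrFun h 1
  ext i; fin_cases i
  · exact h1
  · exact h2
theorem E1_inj : Function.Injective E1 := by
  intro v w h
  rw [E1_apply, E1_apply] at h
  have h1 := congrFun h 1
  ext i; fin_cases i
  exact h1
theorem E2_inj : Function.Injective E2 := by
  intro v w h
  rw [E2_apply, E2_apply] at h
  have h1 := congrFun h 1
  ext i; fin_cases i
  exact h1
theorem E3_inj : Function.Injective E3 := by
  intro v w h
  rw [E3_apply, E3_apply] at h
  have h1 := congrFun h 0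
  ext i; fin_cases i
  exact h1

variable {A : Type*} [CommRing A]

theorem coeff_D1 (x : AddMonoidAlgebra A (Fin 2 → ℤ)) (i j k : ℤ) :
    (mapDomainRingHom A D1 x).coeff ![i, j, k] = if i = 0 then x.coeff ![j, k] else 0 := by
  refine coeff_mapDomain D1 D1_inj x _ _ _ ?_ ?_
  · rintro rfl
    rw [D1_apply]
    rfl
  · intro h u hu
    rw [D1_apply] at hu
    exact h (congrFun hu 0).symm

theorem coeff_D2 (x : AddMonoidAlgebra A (Fin 2 → ℤ)) (i j k : ℤ) :
    (mapDomainRingHom A D2 x).coeff ![i, j, k] = if i = j then x.coeff ![j, k] else 0 := by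
  refine coeff_mapDomain D2 D2_inj x _ _ _ ?_ ?_
  · rintro rfl
    rw [D2_apply]
    rfl
  · intro h u hu
    rw [D2_apply] at hu
    exact h ((congrFun hu 0).symm.trans (congrFun hu 1))

theorem coeff_D3 (x : AddMonoidAlgebra A (Fin 2 → ℤ)) (i j k : ℤ) :
    (mapDomainRingHom A D3 x).coeff ![i, j, k] = if j = k then x.coeff ![i, j] else 0 := by
  refine coeff_mapDomain D3 D3_inj x _ _ _ ?_ ?_
  · rintro rfl
    rw [D3_apply]
    rfl
  · intro h u hu
    rw [D3_apply] at hu
    exact h ((congrFun hu 1).symm.trans (congrFun hu 2))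

theorem coeff_D4 (x : AddMonoidAlgebra A (Fin 2 → ℤ)) (i j k : ℤ) :
    (mapDomainRingHom A D4 x).coeff ![i, j, k] = if k = 0 then x.coeff ![i, j] else 0 := by
  refine coeff_mapDomain D4 D4_inj x _ _ _ ?_ ?_
  · rintro rfl
    rw [D4_apply]
    rfl
  · intro h u hu
    rw [D4_apply] at hu
    exact h (congrFun hu 2).symm

theorem coeff_E1 (y : AddMonoidAlgebra A (Fin 1 → ℤ)) (a b : ℤ) :
    (mapDomainRingHom A E1 y).coeff ![a, b] = if a = 0 then y.coeff ![b] else 0 := by
  refine coeff_mapDomain E1 E1_inj y _ _ _ ?_ ?_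
  · rintro rfl
    rw [E1_apply]
    rfl
  · intro h u hu
    rw [E1_apply] at hu
    exact h (congrFun hu 0).symm

theorem coeff_E2 (y : AddMonoidAlgebra A (Fin 1 → ℤ)) (a b : ℤ) :
    (mapDomainRingHom A E2 y).coeff ![a, b] = if a = b then y.coeff ![b] else 0 := by
  refine coeff_mapDomain E2 E2_inj y _ _ _ ?_ ?_
  · rintro rfl
    rw [E2_apply]
    rfl
  · intro h u hu
    rw [E2_apply] at hu
    exact h ((congrFun hu 0).symm.trans (congrFun hu 1))

theorem coeff_E3 (y : AddMonoidAlgebra A (Fin 1 → ℤ)) (a b : ℤ) :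
    (mapDomainRingHom A E3 y).coeff ![a, b] = if b = 0 then y.coeff ![a] else 0 := by
  refine coeff_mapDomain E3 E3_inj y _ _ _ ?_ ?_
  · rintro rfl
    rw [E3_apply]
    rfl
  · intro h u hu
    rw [E3_apply] at hu
    exact h (congrFun hu 1).symm

theorem exists_yy (x : AddMonoidAlgebra A (Fin 2 → ℤ)) :
    ∃ y : AddMonoidAlgebra A (Fin 1 → ℤ), ∀ a : Fin 1 → ℤ, y.coeff a = x.coeff ![a 0, 0] := by
  refine ⟨comapDomain E3 E3_inj x, fun a => ?_⟩
  rw [coeff_comapDomain, Finsupp.comapDomain_apply, E3_apply]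

/-- The additive `H²` vanishes, modulo an ideal. -/
theorem additive (K K' : Ideal A) (x : AddMonoidAlgebra A (Fin 2 → ℤ)) (hx : InK K x)
    (hz : InK K' (mapDomainRingHom A D1 x - mapDomainRingHom A D2 x + mapDomainRingHom A D3 x -
      mapDomainRingHom A D4 x)) :
    ∃ y : AddMonoidAlgebra A (Fin 1 → ℤ), InK K y ∧
      InK K' (x - (mapDomainRingHom A E1 y - mapDomainRingHom A E2 y + mapDomainRingHom A E3 y)) := by
  obtain ⟨y, hy⟩ := exists_yy x
  refine ⟨y, fun a => by rw [hy]; exact hx _, ?_⟩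
  have hz' : ∀ i j k : ℤ, (if i = 0 then x.coeff ![j, k] else 0) - (if i = j then x.coeff ![j, k] else 0) +
      (if j = k then x.coeff ![i, j] else 0) - (if k = 0 then x.coeff ![i, j] else 0) ∈ K' := by
    intro i j k
    rw [← coeff_D1, ← coeff_D2, ← coeff_D3, ← coeff_D4]
    exact hz ![i, j, k]
  have hy' : ∀ a : ℤ, y.coeff ![a] = x.coeff ![a, 0] := fun a => by rw [hy]; rfl
  intro v
  obtain ⟨a, b, rfl⟩ : ∃ a b, v = ![a, b] := ⟨v 0, v 1, by ext i; fin_cases i <;> rfl⟩
  have h0 : (x - (mapDomainRingHom A E1 y - mapDomainRingHom A E2 y + mapDomainRingHom A E3 y)).coeff ![a, b] =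
      x.coeff ![a, b] - ((if a = 0 then x.coeff ![b, 0] else 0) - (if a = b then x.coeff ![b, 0] else 0) +
        (if b = 0 then x.coeff ![a, 0] else 0)) := by
    rw [← hy', ← hy', ← coeff_E1, ← coeff_E2, ← coeff_E3]
    rfl
  rw [h0]
  by_cases ha : a = 0
  · subst ha
    by_cases hb : b = 0
    · subst hb
      simp
    · have h1 := hz' 0 b b
      have h2 := hz' b b 0
      simp only [if_true, if_neg hb, if_neg (Ne.symm hb), sub_zero, zero_sub, add_zero, zero_add] at h1 h2 ⊢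
      have h3 := K'.add_mem h1 h2
      convert h3 using 1
      ring
  · by_cases hb : b = 0
    · subst hb
      simp [ha]
    · by_cases hab : a = b
      · subst hab
        have h2 := hz' a a 0
        simp only [if_true, if_neg ha, sub_zero, zero_sub, add_zero, zero_add] at h2 ⊢
        have h3 := K'.neg_mem h2
        convert h3 using 1
        ring
      · have h2 := hz' a a b
        simp only [if_true, if_neg ha, if_neg hb, if_neg hab, sub_zero, zero_sub, add_zero, zero_add] at h2 ⊢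
        have h3 := K'.neg_mem h2
        convert h3 using 1
        ring

end K84.LaurentCocycle
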