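import Groth.Agent.CAlg.K84.LaurentCocycle
import Mathlib.RingTheory.Noetherian.Nilpotent
import Mathlib.RingTheory.Ideal.Maximal
import Mathlib.RingTheory.Ideal.Nonunits
import Mathlib.RingTheory.Ideal.Quotient.Basic

/-!
# Multiplicative `H²` of the cosimplicial Laurent polynomial rings
-/

set_option autoImplicit false

namespace K84.LaurentH2

open AddMonoidAlgebra K84.GroupAlgUnits K84.LaurentCocycle

variable {A : Type*} [CommRing A]

/-- the map on units -/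
noncomputable abbrev U {G H : Type*} [AddCommGroup G] [AddCommGroup H] (φ : G →+ H) :
    (AddMonoidAlgebra A G)ˣ →* (AddMonoidAlgebra A H)ˣ :=
  Units.map (mapDomainRingHom A φ).toMonoidHom

theorem coe_U {G H : Type*} [AddCommGroup G] [AddCommGroup H] (φ : G →+ H) (η : (AddMonoidAlgebra A G)ˣ) :
    ((U φ η : (AddMonoidAlgebra A H)ˣ) : AddMonoidAlgebra A H) = mapDomainRingHom A φ η := rfl

theorem U_U {G H L : Type*} [AddCommGroup G] [AddCommGroup H] [AddCommGroup L] (φ : G →+ H) (ψ : H →+ L)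
    (η : (AddMonoidAlgebra A G)ˣ) : U ψ (U φ η) = U (ψ.comp φ) η := by
  apply Units.ext
  rw [coe_U, coe_U, coe_U, mapDomainRingHom_comp]
  rfl

def IsCocycle (ξ : (AddMonoidAlgebra A (Fin 2 → ℤ))ˣ) : Prop :=
  U D1 ξ * (U D2 ξ)⁻¹ * U D3 ξ * (U D4 ξ)⁻¹ = 1

noncomputable def delta (η : (AddMonoidAlgebra A (Fin 1 → ℤ))ˣ) : (AddMonoidAlgebra A (Fin 2 → ℤ))ˣ :=
  U E1 η * (U E2 η)⁻¹ * U E3 η

theorem delta_mul (η η' : (AddMonoidAlgebra A (Fin 1 → ℤ))ˣ) : delta (η * η') = delta η * delta η' := by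
  unfold delta
  rw [map_mul, map_mul, map_mul, mul_inv]
  ac_rfl

theorem IsCocycle.mul {ξ ξ' : (AddMonoidAlgebra A (Fin 2 → ℤ))ˣ} (h : IsCocycle ξ) (h' : IsCocycle ξ') :
    IsCocycle (ξ * ξ') := by
  unfold IsCocycle at *
  rw [map_mul, map_mul, map_mul, map_mul, mul_inv, mul_inv]
  calc _ = (U D1 ξ * (U D2 ξ)⁻¹ * U D3 ξ * (U D4 ξ)⁻¹) * (U D1 ξ' * (U D2 ξ')⁻¹ * U D3 ξ' * (U D4 ξ')⁻¹) := by
        ac_rfl
    _ = 1 := by rw [h, h', one_mul]

theorem IsCocycle.inv {ξ : (AddMonoidAlgebra A (Fin 2 → ℤ))ˣ} (h : IsCocycle ξ) : IsCocycle ξ⁻¹ := by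
  unfold IsCocycle at *
  rw [map_inv, map_inv, map_inv, map_inv]
  calc _ = (U D1 ξ * (U D2 ξ)⁻¹ * U D3 ξ * (U D4 ξ)⁻¹)⁻¹ := by
        rw [mul_inv, mul_inv, mul_inv]
    _ = 1 := by rw [h, inv_one]

theorem comm_aux {X : Type*} [CommGroup X] (a b c d e f : X) :
    (a * b⁻¹ * c) * (a * d⁻¹ * e)⁻¹ * (b * d⁻¹ * f) * (c * e⁻¹ * f)⁻¹ = 1 := by
  have key : ∀ {Y : Type _} [AddCommGroup Y] (a b c d e f : Y),
      (a + -b + c) + -(a + -d + e) + (b + -d + f) + -(c + -e + f) = 0 := by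
    intro Y _ a b c d e f
    abel
  exact key (Y := Additive X) a b c d e f

theorem isCocycle_delta (η : (AddMonoidAlgebra A (Fin 1 → ℤ))ˣ) : IsCocycle (delta η) := by
  unfold IsCocycle delta
  have h1 : D2.comp E1 = D1.comp E1 := by
    ext v i
    simp only [AddMonoidHom.comp_apply, D1_apply, D2_apply, E1_apply]
    fin_cases i <;> rfl
  have h2 : D3.comp E1 = D1.comp E2 := by
    ext v i
    simp only [AddMonoidHom.comp_apply, D1_apply, D3_apply, E1_apply, E2_apply]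
    fin_cases i <;> rfl
  have h3 : D4.comp E1 = D1.comp E3 := by
    ext v i
    simp only [AddMonoidHom.comp_apply, D1_apply, D4_apply, E1_apply, E3_apply]
    fin_cases i <;> rfl
  have h4 : D3.comp E2 = D2.comp E2 := by
    ext v i
    simp only [AddMonoidHom.comp_apply, D2_apply, D3_apply, E2_apply]
    fin_cases i <;> rfl
  have h5 : D4.comp E2 = D2.comp E3 := by
    ext v i
    simp only [AddMonoidHom.comp_apply, D2_apply, D4_apply, E2_apply, E3_apply]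
    fin_cases i <;> rfl
  have h6 : D4.comp E3 = D3.comp E3 := by
    ext v i
    simp only [AddMonoidHom.comp_apply, D3_apply, D4_apply, E3_apply]
    fin_cases i <;> rfl
  simp only [map_mul, map_inv, U_U, h1, h2, h3, h4, h5, h6]
  exact comm_aux _ _ _ _ _ _

theorem isCocycle_iff (ξ : (AddMonoidAlgebra A (Fin 2 → ℤ))ˣ) : IsCocycle ξ ↔
    mapDomainRingHom A D1 (ξ : AddMonoidAlgebra A (Fin 2 → ℤ)) * mapDomainRingHom A D3 ξ =
      mapDomainRingHom A D2 ξ * mapDomainRingHom A D4 ξ := by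
  unfold IsCocycle
  rw [← coe_U, ← coe_U, ← coe_U, ← coe_U, ← Units.val_mul, ← Units.val_mul, Units.val_inj]
  rw [mul_inv_eq_one, mul_assoc, mul_comm _ (U D3 ξ), ← mul_assoc, mul_inv_eq_iff_eq_mul, mul_comm (U D4 ξ)]

theorem step (K K' : Ideal A) (hKK : K * K ≤ K') (hnil : IsNilpotent K)
    (ξ : (AddMonoidAlgebra A (Fin 2 → ℤ))ˣ) (hξ : IsCocycle ξ)
    (hx : InK K ((ξ : AddMonoidAlgebra A (Fin 2 → ℤ)) - 1)) :
    ∃ η : (AddMonoidAlgebra A (Fin 1 → ℤ))ˣ,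
      InK K' (((ξ * (delta η)⁻¹ : (AddMonoidAlgebra A (Fin 2 → ℤ))ˣ) : AddMonoidAlgebra A (Fin 2 → ℤ)) - 1) := by
  rw [isCocycle_iff] at hξ
  obtain ⟨x, hxx⟩ : ∃ x : AddMonoidAlgebra A (Fin 2 → ℤ), (ξ : AddMonoidAlgebra A (Fin 2 → ℤ)) = 1 + x :=
    ⟨ξ - 1, by ring⟩
  rw [hxx, add_sub_cancel_left] at hx
  have hz : InK K' (mapDomainRingHom A D1 x - mapDomainRingHom A D2 x + mapDomainRingHom A D3 x -
      mapDomainRingHom A D4 x) := by
    have h1 : mapDomainRingHom A D1 x - mapDomainRingHom A D2 x + mapDomainRingHom A D3 x -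
      mapDomainRingHom A D4 x = mapDomainRingHom A D2 x * mapDomainRingHom A D4 x -
        mapDomainRingHom A D1 x * mapDomainRingHom A D3 x := by
      rw [hxx, map_add, map_add, map_add, map_add, map_one, map_one, map_one, map_one] at hξ
      linear_combination hξ
    rw [h1]
    exact (((hx.mapDomain D2).mul (hx.mapDomain D4)).sub ((hx.mapDomain D1).mul (hx.mapDomain D3))).mono hKK
  obtain ⟨y, hy, hw⟩ := additive K K' x hx hz
  obtain ⟨η, hη⟩ := hy.isUnit_one_add hnil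
  refine ⟨η, ?_⟩
  have h2 : (ξ : AddMonoidAlgebra A (Fin 2 → ℤ)) * mapDomainRingHom A E2 (η : AddMonoidAlgebra A (Fin 1 → ℤ)) -
      mapDomainRingHom A E1 (η : AddMonoidAlgebra A (Fin 1 → ℤ)) *
        mapDomainRingHom A E3 (η : AddMonoidAlgebra A (Fin 1 → ℤ)) =
      (x - (mapDomainRingHom A E1 y - mapDomainRingHom A E2 y + mapDomainRingHom A E3 y)) +
      (x * mapDomainRingHom A E2 y - mapDomainRingHom A E1 y * mapDomainRingHom A E3 y) := by
    rw [hη, hxx, map_add, map_add, map_add, map_one, map_one, map_one]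
    ring
  have h3 : InK K' ((ξ : AddMonoidAlgebra A (Fin 2 → ℤ)) * mapDomainRingHom A E2 (η : AddMonoidAlgebra A (Fin 1 → ℤ)) -
      mapDomainRingHom A E1 (η : AddMonoidAlgebra A (Fin 1 → ℤ)) *
        mapDomainRingHom A E3 (η : AddMonoidAlgebra A (Fin 1 → ℤ))) := by
    rw [h2]
    exact hw.add (((hx.mul (hy.mapDomain E2)).sub ((hy.mapDomain E1).mul (hy.mapDomain E3))).mono hKK)
  have h4 : ((ξ * (delta η)⁻¹ : (AddMonoidAlgebra A (Fin 2 → ℤ))ˣ) : AddMonoidAlgebra A (Fin 2 → ℤ)) - 1 =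
      ((ξ : AddMonoidAlgebra A (Fin 2 → ℤ)) * mapDomainRingHom A E2 (η : AddMonoidAlgebra A (Fin 1 → ℤ)) -
      mapDomainRingHom A E1 (η : AddMonoidAlgebra A (Fin 1 → ℤ)) *
        mapDomainRingHom A E3 (η : AddMonoidAlgebra A (Fin 1 → ℤ))) *
      (((U E1 η)⁻¹ * (U E3 η)⁻¹ : (AddMonoidAlgebra A (Fin 2 → ℤ))ˣ) : AddMonoidAlgebra A (Fin 2 → ℤ)) := by
    have h5 : ξ * (delta η)⁻¹ = ξ * U E2 η * ((U E1 η)⁻¹ * (U E3 η)⁻¹) := by
      unfold delta
      rw [mul_inv, mul_inv, inv_inv]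
      ac_rfl
    have h6 : U E1 η * U E3 η * ((U E1 η)⁻¹ * (U E3 η)⁻¹) = 1 := by
      rw [← mul_inv, mul_inv_cancel]
    rw [h5, sub_mul, ← coe_U, ← coe_U, ← coe_U, ← Units.val_mul, ← Units.val_mul, ← Units.val_mul, ← Units.val_mul,
      h6, Units.val_one]
  rw [h4]
  exact h3.mul_right _

theorem iterate (I : Ideal A) (hnil : IsNilpotent I)
    (ξ : (AddMonoidAlgebra A (Fin 2 → ℤ))ˣ) (hξ : IsCocycle ξ)
    (hx : InK I ((ξ : AddMonoidAlgebra A (Fin 2 → ℤ)) - 1)) (k : ℕ) :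
    ∃ η : (AddMonoidAlgebra A (Fin 1 → ℤ))ˣ,
      InK (I ^ (k + 1)) (((ξ * (delta η)⁻¹ : (AddMonoidAlgebra A (Fin 2 → ℤ))ˣ) :
        AddMonoidAlgebra A (Fin 2 → ℤ)) - 1) := by
  induction k with
  | zero =>
    refine ⟨1, ?_⟩
    have h1 : delta (1 : (AddMonoidAlgebra A (Fin 1 → ℤ))ˣ) = 1 := by
      unfold delta
      rw [map_one, map_one, map_one, inv_one, mul_one, mul_one]
    rw [h1, inv_one, mul_one, zero_add, pow_one]
    exact hx
  | succ k ih =>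
    obtain ⟨η, hη⟩ := ih
    obtain ⟨η', hη'⟩ := step (I ^ (k + 1)) (I ^ (k + 2)) (by
      rw [← pow_add]
      exact Ideal.pow_le_pow_right (by omega)) (by
        obtain ⟨n, hn⟩ := hnil
        exact ⟨n, by rw [← pow_mul, mul_comm, pow_mul, hn]; exact zero_pow (Nat.succ_ne_zero k)⟩)
      (ξ * (delta η)⁻¹) (hξ.mul (isCocycle_delta η).inv) hη
    refine ⟨η * η', ?_⟩
    rw [delta_mul, mul_inv, ← mul_assoc]
    exact hη'

theorem of_nilpotent (I : Ideal A) (hnil : IsNilpotent I)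
    (ξ : (AddMonoidAlgebra A (Fin 2 → ℤ))ˣ) (hξ : IsCocycle ξ)
    (hx : InK I ((ξ : AddMonoidAlgebra A (Fin 2 → ℤ)) - 1)) : ∃ η, ξ = delta η := by
  obtain ⟨n, hn⟩ := hnil
  obtain ⟨η, hη⟩ := iterate I ⟨n, hn⟩ ξ hξ hx n
  refine ⟨η, ?_⟩
  rw [pow_succ, hn, zero_mul] at hη
  have h1 := hη.eq_zero
  rw [sub_eq_zero] at h1
  have h2 : ξ * (delta η)⁻¹ = 1 := Units.ext h1
  rwa [mul_inv_eq_one] at h2

/-- the coefficients of a cocycle modulo a prime -/
theorem coeff_mem_of_prime (ξ : (AddMonoidAlgebra A (Fin 2 → ℤ))ˣ) (hξ : IsCocycle ξ) (p : Ideal A) [p.IsPrime] :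
    (∀ m ≠ 0, (ξ : AddMonoidAlgebra A (Fin 2 → ℤ)).coeff m ∈ p) ∧
      (ξ : AddMonoidAlgebra A (Fin 2 → ℤ)).coeff 0 ∉ p := by
  have hφ : ∀ {G : Type} [AddCommGroup G], True := fun {G} _ => trivial
  let F2 : AddMonoidAlgebra A (Fin 2 → ℤ) →+* AddMonoidAlgebra (A ⧸ p) (Fin 2 → ℤ) :=
    mapRingHom (Fin 2 → ℤ) (Ideal.Quotient.mk p)
  let F3 : AddMonoidAlgebra A (Fin 3 → ℤ) →+* AddMonoidAlgebra (A ⧸ p) (Fin 3 → ℤ) :=
    mapRingHom (Fin 3 → ℤ) (Ideal.Quotient.mk p)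
  have hcomm : ∀ (φ : (Fin 2 → ℤ) →+ (Fin 3 → ℤ)) (x : AddMonoidAlgebra A (Fin 2 → ℤ)),
      F3 (mapDomainRingHom A φ x) = mapDomainRingHom (A ⧸ p) φ (F2 x) := fun φ x =>
    RingHom.congr_fun (mapRingHom_comp_mapDomainRingHom (Ideal.Quotient.mk p) φ) x
  obtain ⟨m, c, hc, hm⟩ := exists_single_of_mul_eq_one (F2 ξ) (F2 (ξ⁻¹ : (AddMonoidAlgebra A (Fin 2 → ℤ))ˣ)) (by
    rw [← map_mul, Units.mul_inv, map_one])
  rw [isCocycle_iff] at hξ
  have h1 := congrArg F3 hξ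
  rw [map_mul, map_mul, hcomm, hcomm, hcomm, hcomm, hm] at h1
  have h2 : ∀ φ : (Fin 2 → ℤ) →+ (Fin 3 → ℤ), mapDomainRingHom (A ⧸ p) φ (single m c) = single (φ m) c := fun φ =>
    mapDomain_single
  rw [h2, h2, h2, h2, single_mul_single, single_mul_single] at h1
  have h3 := congrArg (fun f => f.coeff (D1 m + D3 m)) h1
  simp only [coeff_single, Finsupp.single_eq_same] at h3
  have h4 : D2 m + D4 m = D1 m + D3 m := by
    by_contra hne
    rw [Finsupp.single_apply, if_neg hne] at h3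
    exact mul_ne_zero hc hc h3
  rw [D1_apply, D2_apply, D3_apply, D4_apply] at h4
  have h5 : m = 0 := by
    have h6 := congrFun h4 0
    have h7 := congrFun h4 2
    simp at h6 h7
    ext i
    fin_cases i
    · exact h6
    · exact h7
  subst h5
  have h8 : ∀ n, Ideal.Quotient.mk p ((ξ : AddMonoidAlgebra A (Fin 2 → ℤ)).coeff n) =
      if (0 : Fin 2 → ℤ) = n then c else 0 := by
    intro n
    have h9 := congrArg (fun f => f.coeff n) hm
    simp only [coeff_single, Finsupp.single_apply] at h9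
    rw [← h9]
    exact (coeff_mapRingHom _ _ _).symm
  constructor
  · intro n hn
    rw [← Ideal.Quotient.eq_zero_iff_mem, h8, if_neg (Ne.symm hn)]
  · rw [← Ideal.Quotient.eq_zero_iff_mem, h8, if_pos rfl]
    exact hc

theorem main (ξ : (AddMonoidAlgebra A (Fin 2 → ℤ))ˣ) (hξ : IsCocycle ξ) : ∃ η, ξ = delta η := by
  classical
  have hu : IsUnit ((ξ : AddMonoidAlgebra A (Fin 2 → ℤ)).coeff 0) := by
    by_contra hnu
    obtain ⟨p, hp, hmem⟩ := exists_max_ideal_of_mem_nonunits hnu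
    exact (coeff_mem_of_prime ξ hξ p).2 hmem
  obtain ⟨u, hu⟩ := hu
  have hone : ∀ {G : Type} [AddCommGroup G], (single (0 : G) (u : A)) * (single (0 : G) ((u⁻¹ : Aˣ) : A)) =
      (1 : AddMonoidAlgebra A G) := by
    intro G _
    rw [single_mul_single, add_zero, Units.mul_inv, one_def]
  let η₀ : (AddMonoidAlgebra A (Fin 1 → ℤ))ˣ := ⟨single 0 (u : A), single 0 ((u⁻¹ : Aˣ) : A), hone,
    by rw [mul_comm]; exact hone⟩
  let v : (AddMonoidAlgebra A (Fin 2 → ℤ))ˣ := ⟨single 0 (u : A), single 0 ((u⁻¹ : Aˣ) : A), hone,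
    by rw [mul_comm]; exact hone⟩
  have hE : ∀ φ : (Fin 1 → ℤ) →+ (Fin 2 → ℤ), U φ η₀ = v := by
    intro φ
    apply Units.ext
    rw [coe_U]
    change mapDomain φ (single 0 (u : A)) = single 0 (u : A)
    rw [mapDomain_single, map_zero]
  have hδ : delta η₀ = v := by
    unfold delta
    rw [hE, hE, hE, mul_inv_cancel, one_mul]
  let S : Finset A := (((ξ : AddMonoidAlgebra A (Fin 2 → ℤ)) - (v : AddMonoidAlgebra A (Fin 2 → ℤ))).coeff.support).image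
    (fun m => ((ξ : AddMonoidAlgebra A (Fin 2 → ℤ)) - (v : AddMonoidAlgebra A (Fin 2 → ℤ))).coeff m)
  let I : Ideal A := Ideal.span (S : Set A)
  have hInK : InK I ((ξ : AddMonoidAlgebra A (Fin 2 → ℤ)) - (v : AddMonoidAlgebra A (Fin 2 → ℤ))) := by
    intro m
    by_cases hm : m ∈ ((ξ : AddMonoidAlgebra A (Fin 2 → ℤ)) - (v : AddMonoidAlgebra A (Fin 2 → ℤ))).coeff.support
    · exact Ideal.subset_span (Finset.mem_coe.mpr (Finset.mem_image.mpr ⟨m, hm, rfl⟩))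
    · rw [Finsupp.notMem_support_iff.mp hm]
      exact I.zero_mem
  have hval : ∀ m, ((ξ : AddMonoidAlgebra A (Fin 2 → ℤ)) - (v : AddMonoidAlgebra A (Fin 2 → ℤ))).coeff m =
      (ξ : AddMonoidAlgebra A (Fin 2 → ℤ)).coeff m - if (0 : Fin 2 → ℤ) = m then (u : A) else 0 := by
    intro m
    change (ξ : AddMonoidAlgebra A (Fin 2 → ℤ)).coeff m - (Finsupp.single 0 (u : A)) m = _
    rw [Finsupp.single_apply]
  have hnil : IsNilpotent I := by
    rw [Ideal.FG.isNilpotent_iff_le_nilradical ⟨S, rfl⟩, Ideal.span_le]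
    intro a ha
    obtain ⟨m, _, rfl⟩ := Finset.mem_image.mp (Finset.mem_coe.mp ha)
    rw [SetLike.mem_coe, nilradical_eq_sInf, Ideal.mem_sInf]
    intro p hp
    have hp' : p.IsPrime := hp
    rw [hval]
    by_cases hm : (0 : Fin 2 → ℤ) = m
    · rw [if_pos hm, ← hm, hu, sub_self]
      exact p.zero_mem
    · rw [if_neg hm, sub_zero]
      exact (coeff_mem_of_prime ξ hξ p).1 m (Ne.symm hm)
  obtain ⟨η, hη⟩ := of_nilpotent I hnil (ξ * (delta η₀)⁻¹) (hξ.mul (isCocycle_delta η₀).inv) (by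
    have h1 : ((ξ * (delta η₀)⁻¹ : (AddMonoidAlgebra A (Fin 2 → ℤ))ˣ) : AddMonoidAlgebra A (Fin 2 → ℤ)) - 1 =
        ((ξ : AddMonoidAlgebra A (Fin 2 → ℤ)) - (v : AddMonoidAlgebra A (Fin 2 → ℤ))) * (v⁻¹ : (AddMonoidAlgebra A (Fin 2 → ℤ))ˣ) := by
      rw [hδ, Units.val_mul, sub_mul, Units.mul_inv]
    rw [h1]
    exact hInK.mul_right _)
  refine ⟨η₀ * η, ?_⟩
  rw [delta_mul, ← hη, mul_comm ξ, mul_inv_cancel_left]

end K84.LaurentH2
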