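import Groth.Agent.CalgA.RegProjDim
import Mathlib.Algebra.Category.ModuleCat.Algebra
import Mathlib.Algebra.Homology.DerivedCategory.Ext.Linear
import Mathlib.Algebra.Homology.DerivedCategory.Ext.ExactSequences
import Mathlib.Algebra.Category.ModuleCat.Ext.HasExt
import Mathlib.LinearAlgebra.FiniteDimensional.Basic
import Mathlib.RingTheory.MvPowerSeries.NoZeroDivisors
import Groth.Agent.CurvesB.SeriesEval

/-!
# `Ext¹` between the branches of a node

`finrank_ext`: `A` an algebra over the field `k`, `Ann(b) = (a)`, `A / (a, b) = k`: then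
`Ext¹(A/b, A/a)` is one-dimensional.
-/

set_option autoImplicit false
universe u w v

open CategoryTheory Abelian

namespace K84.NodeExt

/-- A one-dimensional `Ext¹` from a presentation. -/
theorem finrank_ext_one {k : Type*} [Field k] {C : Type u} [Category.{v} C] [Abelian C] [Linear k C] [HasExt.{w} C]
    {S : ShortComplex C} (hS : S.ShortExact) [Projective S.X₂] (Y : C) (i : S.X₁ ⟶ Y)
    (hi : ∀ g : S.X₂ ⟶ Y, S.f ≫ g ≠ i)
    (h : ∀ x : S.X₁ ⟶ Y, ∃ (r : k) (g : S.X₂ ⟶ Y), x = r • i + S.f ≫ g) :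
    Module.finrank k (Ext S.X₃ Y 1) = 1 := by
  let e : Ext S.X₃ Y 1 := hS.extClass.comp (Ext.mk₀ i) (add_zero 1)
  refine finrank_eq_one e ?_ ?_
  · intro he
    obtain ⟨x, hx⟩ := Ext.contravariant_sequence_exact₁ hS Y (Ext.mk₀ i) (add_zero 1) he
    obtain ⟨x, rfl⟩ := (Ext.mk₀_bijective _ _).2 x
    rw [Ext.mk₀_comp_mk₀] at hx
    exact hi x ((Ext.mk₀_bijective _ _).1 hx)
  · intro w
    obtain ⟨x, hx⟩ := Ext.contravariant_sequence_exact₃ hS Y w
      ((Ext.subsingleton_of_projective S.X₂ Y 0).elim _ _) (add_zero 1)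
    obtain ⟨x, rfl⟩ := (Ext.mk₀_bijective _ _).2 x
    obtain ⟨r, g, rfl⟩ := h x
    refine ⟨r, ?_⟩
    rw [← hx, Ext.mk₀_add, Ext.comp_add, Ext.mk₀_smul, Ext.comp_smul, ← Ext.mk₀_comp_mk₀, hS.extClass_comp_assoc,
      add_zero]

variable {k : Type u} [Field k] {A : Type u} [CommRing A] [Algebra k A]

theorem finrank_ext (a b : A) (h1 : ∀ c, b * c = 0 ↔ c ∈ Ideal.span {a})
    (h2 : (1 : A) ∉ Ideal.span {a} ⊔ Ideal.span {b})
    (h3 : ∀ c : A, ∃ r : k, c - algebraMap k A r ∈ Ideal.span {a} ⊔ Ideal.span {b}) :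
    Module.finrank k (Ext (ModuleCat.of A (A ⧸ Ideal.span {b})) (ModuleCat.of A (A ⧸ Ideal.span {a})) 1) = 1 := by
  let ι : (A ⧸ Ideal.span {a}) →ₗ[A] A := Submodule.liftQ _ (LinearMap.mulLeft A b) (by
    intro c hc
    rw [LinearMap.mem_ker, LinearMap.mulLeft_apply]
    exact (h1 c).mpr hc)
  have hι : ∀ c : A, ι (Ideal.Quotient.mk _ c) = b * c := fun c => rfl
  have hinj : Function.Injective ι := by
    rw [injective_iff_map_eq_zero]
    intro c hc
    obtain ⟨c, rfl⟩ := Ideal.Quotient.mk_surjective c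
    rw [hι] at hc
    exact Ideal.Quotient.eq_zero_iff_mem.mpr ((h1 c).mp hc)
  have hex : Function.Exact ι (Submodule.mkQ (Ideal.span {b})) := by
    intro c
    rw [Submodule.mkQ_apply, Submodule.Quotient.mk_eq_zero, Ideal.mem_span_singleton]
    constructor
    · rintro ⟨d, rfl⟩
      exact ⟨Ideal.Quotient.mk _ d, hι d⟩
    · rintro ⟨d, rfl⟩
      obtain ⟨d, rfl⟩ := Ideal.Quotient.mk_surjective d
      exact ⟨d, hι d⟩
  have hS := Groth.Agent.CalgA.RegProjDim.shortExact ι (Submodule.mkQ (Ideal.span {b})) hinj hex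
    (Submodule.mkQ_surjective _)
  let Y := ModuleCat.of A (A ⧸ Ideal.span {a})
  have hproj : Projective (ModuleCat.of A A) := (IsProjective.iff_projective A).1 inferInstance
  refine finrank_ext_one hS Y (𝟙 Y) ?_ ?_
  · intro x h4
    have h5 : x.hom (ι (Ideal.Quotient.mk _ 1)) = Ideal.Quotient.mk _ (1 : A) :=
      congrArg (fun g => g.hom (Ideal.Quotient.mk _ (1 : A))) h4
    obtain ⟨d, hd⟩ := Ideal.Quotient.mk_surjective (x.hom (1 : A))
    have h6 : x.hom (ι (Ideal.Quotient.mk _ 1)) = Ideal.Quotient.mk _ (b * d) := by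
      rw [hι, mul_one, map_mul, hd]
      have h7 : x.hom b = b • x.hom (1 : A) := by
        rw [← map_smul, smul_eq_mul, mul_one]
      rw [h7]
      rfl
    rw [h6, Ideal.Quotient.eq] at h5
    apply h2
    have h8 : (1 : A) = -(b * d - 1) + d * b := by ring
    rw [h8]
    exact add_mem (neg_mem (Ideal.mem_sup_left h5)) (Ideal.mem_sup_right
      (Ideal.mul_mem_left _ _ (Ideal.mem_span_singleton_self b)))
  · intro x
    obtain ⟨c, hc⟩ := Ideal.Quotient.mk_surjective (x.hom (Ideal.Quotient.mk _ (1 : A)))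
    obtain ⟨r, hr⟩ := h3 c
    obtain ⟨u, hu, v, hv, huv⟩ := Submodule.mem_sup.mp hr
    obtain ⟨v, rfl⟩ := Ideal.mem_span_singleton.mp hv
    refine ⟨r, ModuleCat.ofHom (LinearMap.toSpanSingleton A _ (Ideal.Quotient.mk _ v)), ?_⟩
    apply ModuleCat.hom_ext
    apply LinearMap.ext
    intro z
    obtain ⟨z, rfl⟩ := Ideal.Quotient.mk_surjective z
    have h5 : x.hom (Ideal.Quotient.mk (Ideal.span {a}) z) = z • x.hom (Ideal.Quotient.mk _ (1 : A)) := by
      rw [← map_smul]
      congr 1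
      change _ = Ideal.Quotient.mk (Ideal.span {a}) (z * 1)
      rw [mul_one]
    rw [h5, ← hc]
    change Ideal.Quotient.mk (Ideal.span {a}) (z * c) = Ideal.Quotient.mk (Ideal.span {a}) (algebraMap k A r * z) +
      Ideal.Quotient.mk (Ideal.span {a}) (b * z * v)
    rw [← map_add, Ideal.Quotient.eq]
    have h6 : z * c - (algebraMap k A r * z + b * z * v) = z * u := by
      linear_combination (-z) * huv
    rw [h6]
    exact Ideal.mul_mem_left _ _ hu

section

variable {B : Type*} [CommRing B] (X Y : B)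

theorem mk_mem_span_iff (c : B) : Ideal.Quotient.mk (Ideal.span {X * Y}) c ∈
    Ideal.span {Ideal.Quotient.mk (Ideal.span {X * Y}) X} ↔ c ∈ Ideal.span {X} := by
  have h1 : Ideal.span {Ideal.Quotient.mk (Ideal.span {X * Y}) X} =
      (Ideal.span {X}).map (Ideal.Quotient.mk (Ideal.span {X * Y})) := by
    rw [Ideal.map_span, Set.image_singleton]
  rw [h1, Ideal.mem_quotient_iff_mem]
  rw [Ideal.span_singleton_le_span_singleton]
  exact dvd_mul_right _ _

theorem mk_mem_sup_iff (c : B) : Ideal.Quotient.mk (Ideal.span {X * Y}) c ∈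
    Ideal.span {Ideal.Quotient.mk (Ideal.span {X * Y}) X} ⊔ Ideal.span {Ideal.Quotient.mk (Ideal.span {X * Y}) Y} ↔
      c ∈ Ideal.span {X} ⊔ Ideal.span {Y} := by
  have h1 : Ideal.span {Ideal.Quotient.mk (Ideal.span {X * Y}) X} ⊔
      Ideal.span {Ideal.Quotient.mk (Ideal.span {X * Y}) Y} =
        (Ideal.span {X} ⊔ Ideal.span {Y}).map (Ideal.Quotient.mk (Ideal.span {X * Y})) := by
    rw [Ideal.map_sup, Ideal.map_span, Ideal.map_span, Set.image_singleton, Set.image_singleton]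
  rw [h1, Ideal.mem_quotient_iff_mem]
  refine le_trans ?_ le_sup_left
  rw [Ideal.span_singleton_le_span_singleton]
  exact dvd_mul_right _ _

theorem mul_eq_zero_iff [IsDomain B] (hY : Y ≠ 0) (c : B ⧸ Ideal.span {X * Y}) :
    Ideal.Quotient.mk (Ideal.span {X * Y}) Y * c = 0 ↔ c ∈ Ideal.span {Ideal.Quotient.mk (Ideal.span {X * Y}) X} := by
  obtain ⟨c, rfl⟩ := Ideal.Quotient.mk_surjective c
  rw [mk_mem_span_iff, ← map_mul, Ideal.Quotient.eq_zero_iff_mem, Ideal.mem_span_singleton, Ideal.mem_span_singleton,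
    mul_comm X Y]
  exact mul_dvd_mul_iff_left hY

end

section

variable (k : Type u) [Field k]

theorem mem_sup_iff (f : MvPowerSeries (Fin 2) k) : f ∈ Ideal.span {(MvPowerSeries.X (0 : Fin 2) :
    MvPowerSeries (Fin 2) k)} ⊔ Ideal.span {MvPowerSeries.X (1 : Fin 2)} ↔ MvPowerSeries.constantCoeff f = 0 := by
  have hrange : (Set.range (MvPowerSeries.X : Fin 2 → MvPowerSeries (Fin 2) k)) =
      {MvPowerSeries.X 0, MvPowerSeries.X 1} := by
    ext z
    constructor
    · rintro ⟨i, rfl⟩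
      fin_cases i
      · exact Or.inl rfl
      · exact Or.inr rfl
    · rintro (rfl | rfl)
      · exact ⟨0, rfl⟩
      · exact ⟨1, rfl⟩
  rw [← Groth.Agent.CurvesB.SeriesEval.mem_span_range_X_iff, hrange, Ideal.span_insert]

theorem X_ne_zero : (MvPowerSeries.X (1 : Fin 2) : MvPowerSeries (Fin 2) k) ≠ 0 := by
  intro h
  have h1 := congrArg (MvPowerSeries.coeff (Finsupp.single (1 : Fin 2) 1)) h
  rw [MvPowerSeries.coeff_index_single_self_X, map_zero] at h1
  exact one_ne_zero h1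

theorem finrank_ext_node : Module.finrank k (Ext (ModuleCat.of (MvPowerSeries (Fin 2) k ⧸
    Ideal.span {(MvPowerSeries.X (0 : Fin 2) : MvPowerSeries (Fin 2) k) * MvPowerSeries.X (1 : Fin 2)})
      ((MvPowerSeries (Fin 2) k ⧸ Ideal.span {(MvPowerSeries.X (0 : Fin 2) : MvPowerSeries (Fin 2) k) *
        MvPowerSeries.X (1 : Fin 2)}) ⧸ Ideal.span {Ideal.Quotient.mk (Ideal.span {(MvPowerSeries.X (0 : Fin 2) :
          MvPowerSeries (Fin 2) k) * MvPowerSeries.X (1 : Fin 2)}) (MvPowerSeries.X (1 : Fin 2))}))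
    (ModuleCat.of (MvPowerSeries (Fin 2) k ⧸ Ideal.span {(MvPowerSeries.X (0 : Fin 2) : MvPowerSeries (Fin 2) k) *
      MvPowerSeries.X (1 : Fin 2)}) ((MvPowerSeries (Fin 2) k ⧸ Ideal.span {(MvPowerSeries.X (0 : Fin 2) :
        MvPowerSeries (Fin 2) k) * MvPowerSeries.X (1 : Fin 2)}) ⧸ Ideal.span {Ideal.Quotient.mk
          (Ideal.span {(MvPowerSeries.X (0 : Fin 2) : MvPowerSeries (Fin 2) k) * MvPowerSeries.X (1 : Fin 2)})
            (MvPowerSeries.X (0 : Fin 2))})) 1) = 1 := by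
  have hdom : IsDomain (MvPowerSeries (Fin 2) k) := NoZeroDivisors.to_isDomain _
  refine finrank_ext _ _ (mul_eq_zero_iff _ _ (X_ne_zero k)) ?_ ?_
  · rw [← map_one (Ideal.Quotient.mk _), mk_mem_sup_iff, mem_sup_iff, map_one]
    exact one_ne_zero
  · intro c
    obtain ⟨c, rfl⟩ := Ideal.Quotient.mk_surjective c
    refine ⟨MvPowerSeries.constantCoeff c, ?_⟩
    have h1 : algebraMap k (MvPowerSeries (Fin 2) k ⧸
        Ideal.span {(MvPowerSeries.X (0 : Fin 2) : MvPowerSeries (Fin 2) k) * MvPowerSeries.X (1 : Fin 2)})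
          (MvPowerSeries.constantCoeff c) = Ideal.Quotient.mk _ (MvPowerSeries.C (MvPowerSeries.constantCoeff c)) := rfl
    rw [h1, ← map_sub, mk_mem_sup_iff, mem_sup_iff, map_sub, MvPowerSeries.constantCoeff_C, sub_self]

end

end K84.NodeExt
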