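import Groth.Agent.CAlg.K84.PlanarMF
import Groth.Agent.CAlg.K82.TorVanIff
import Groth.Agent.Localalg.InjDim
import Mathlib.LinearAlgebra.TensorProduct.Pi
import Mathlib.LinearAlgebra.Contraction

/-!
# Vanishing of `Ext²` and `Tor₁` for modules on two curves without common component through a planar singularity
-/

set_option autoImplicit false
universe u

open CategoryTheory Abelian IsLocalRing TensorProduct

namespace K84.PlanarExt

section

variable {R : Type u} [CommRing R]

/-- homomorphisms vanish between modules with annihilators generating a primary ideal -/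
theorem hom_eq_zero [IsLocalRing R] (I J : Ideal R) (n : ℕ) (hIJ : maximalIdeal R ^ n ≤ I ⊔ J)
    {M N : Type*} [AddCommGroup M] [Module R M] [AddCommGroup N] [Module R N]
    (hI : ∀ a ∈ I, ∀ m : M, a • m = 0) (hJ : ∀ a ∈ J, ∀ m : N, a • m = 0)
    (y : R) (hy : y ∈ maximalIdeal R) (hyN : IsSMulRegular N y) (g : M →ₗ[R] N) : g = 0 := by
  ext m
  have h1 : ∀ a ∈ I ⊔ J, a • g m = 0 := by
    intro a ha
    obtain ⟨b, hb, c, hc, rfl⟩ := Submodule.mem_sup.mp ha
    rw [add_smul, hJ c hc, add_zero, ← map_smul, hI b hb, map_zero]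
  have h2 := h1 (y ^ n) (hIJ (Ideal.pow_mem_pow hy n))
  exact (hyN.pow n) (show y ^ n • g m = y ^ n • (0 : N) by rw [h2, smul_zero])

/-- `Ext²` from a four term sequence with `Hom(ker φ, N) = 0` -/
theorem subsingleton_ext_two {M : Type u} [AddCommGroup M] [Module R M] {F G : Type u} [AddCommGroup F] [Module R F]
    [AddCommGroup G] [Module R G] [Module.Projective R F] [Module.Projective R G]
    (φ : G →ₗ[R] F) (p : F →ₗ[R] M) (hp : Function.Surjective p) (hφp : Function.Exact φ p)
    (N : Type u) [AddCommGroup N] [Module R N] (h : ∀ g : LinearMap.ker φ →ₗ[R] N, g = 0) :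
    Subsingleton (Ext (ModuleCat.of R M) (ModuleCat.of R N) 2) := by
  let K := LinearMap.ker p
  let φ' : G →ₗ[R] K := φ.codRestrict K (fun w => (hφp (φ w)).mpr ⟨w, rfl⟩)
  have hφ' : Function.Surjective φ' := by
    rintro ⟨v, hv⟩
    obtain ⟨w, hw⟩ := (hφp v).mp hv
    exact ⟨w, Subtype.ext hw⟩
  have h1 := Groth.Agent.CalgA.RegProjDim.shortExact K.subtype p K.subtype_injective
    (fun v => ⟨fun hv => ⟨⟨v, hv⟩, rfl⟩, fun ⟨w, hw⟩ => hw ▸ w.2⟩) hp
  have h2 := Groth.Agent.CalgA.RegProjDim.shortExact (LinearMap.ker φ).subtype φ' (Submodule.subtype_injective _)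
    (fun v => ⟨fun hv => ⟨⟨v, congrArg Subtype.val hv⟩, rfl⟩, fun ⟨w, hw⟩ => hw ▸ Subtype.ext w.2⟩) hφ'
  have hpF : Projective (ModuleCat.of R F) := (IsProjective.iff_projective F).1 inferInstance
  have hpG : Projective (ModuleCat.of R G) := (IsProjective.iff_projective G).1 inferInstance
  refine Groth.Agent.Localalg.InjDim.subsingleton_ext_X₃ h1 (ModuleCat.of R N) 1 ?_
    (Ext.subsingleton_of_projective _ _ _)
  refine Groth.Agent.Localalg.InjDim.subsingleton_ext_X₃ h2 (ModuleCat.of R N) 0 ?_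
    (Ext.subsingleton_of_projective _ _ _)
  refine ⟨fun a b => ?_⟩
  obtain ⟨a, rfl⟩ := (Ext.mk₀_bijective _ _).2 a
  obtain ⟨b, rfl⟩ := (Ext.mk₀_bijective _ _).2 b
  congr 1
  apply ModuleCat.hom_ext
  exact (h a.hom).trans (h b.hom).symm

/-- `Dual N ⊗ R^k → Hom(N, R^k)` is injective -/
theorem dualTensorHom_pi_injective (N : Type*) [AddCommGroup N] [Module R N] (k : ℕ) :
    Function.Injective (dualTensorHom R N (Fin k → R)) := by
  rw [injective_iff_map_eq_zero]
  intro s hs
  have h1 : ∀ (s : Module.Dual R N ⊗[R] (Fin k → R)) (i : Fin k) (x : N),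
      (TensorProduct.piScalarRight R R (Module.Dual R N) (Fin k) s i) x = dualTensorHom R N (Fin k → R) s x i := by
    intro s i x
    induction s with
    | zero => simp
    | add a b ha hb => simp only [map_add, LinearMap.add_apply, Pi.add_apply, ha, hb]
    | tmul a b =>
      rw [TensorProduct.piScalarRight_apply, TensorProduct.piScalarRightHom_tmul, dualTensorHom_apply]
      simp [mul_comm]
  have h2 : TensorProduct.piScalarRight R R (Module.Dual R N) (Fin k) s = 0 := by
    ext i x
    rw [h1, hs]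
    rfl
  exact (LinearEquiv.map_eq_zero_iff _).mp h2

theorem dualTensorHom_natural {N G F : Type*} [AddCommGroup N] [Module R N] [AddCommGroup G] [Module R G]
    [AddCommGroup F] [Module R F] (φ : G →ₗ[R] F) (s : Module.Dual R N ⊗[R] G) :
    dualTensorHom R N F (φ.lTensor _ s) = φ ∘ₗ dualTensorHom R N G s := by
  induction s with
  | zero => simp
  | add a b ha hb => simp only [map_add, ha, hb, LinearMap.comp_add]
  | tmul a b =>
    ext x
    simp

/-- `Tor₁(M, N*) = 0` if `Hom(N, ker φ) = 0` -/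
theorem torVan {M : Type*} [AddCommGroup M] [Module R M] {k n : ℕ}
    (φ : (Fin k → R) →ₗ[R] (Fin n → R)) (p : (Fin n → R) →ₗ[R] M) (hp : Function.Surjective p)
    (hφp : Function.Exact φ p)
    (N : Type*) [AddCommGroup N] [Module R N] (h : ∀ g : N →ₗ[R] LinearMap.ker φ, g = 0) :
    Groth.Agent.FlatA.TorOne.TorVan R M (Module.Dual R N) := by
  let K := LinearMap.ker p
  let φ' : (Fin k → R) →ₗ[R] K := φ.codRestrict K (fun w => (hφp (φ w)).mpr ⟨w, rfl⟩)
  have hφ' : Function.Surjective φ' := by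
    rintro ⟨v, hv⟩
    obtain ⟨w, hw⟩ := (hφp v).mp hv
    exact ⟨w, Subtype.ext hw⟩
  refine Groth.Agent.FlatA.TorOne.TorVan.of_ker hp ?_
  have h0 : Function.Injective (K.subtype.lTensor (Module.Dual R N)) := by
    rw [injective_iff_map_eq_zero]
    intro t ht
    obtain ⟨s, rfl⟩ := LinearMap.lTensor_surjective (Module.Dual R N) hφ' t
    have h1 : φ.lTensor (Module.Dual R N) s = 0 := by
      rw [← LinearMap.comp_apply, ← LinearMap.lTensor_comp] at ht
      exact ht
    have h2 := dualTensorHom_natural φ s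
    rw [h1, map_zero] at h2
    have h3 : dualTensorHom R N (Fin k → R) s = 0 := by
      have h4 := h ((dualTensorHom R N (Fin k → R) s).codRestrict (LinearMap.ker φ) (fun x =>
        (LinearMap.congr_fun h2 x).symm))
      ext1 x
      exact congrArg Subtype.val (LinearMap.congr_fun h4 x)
    rw [dualTensorHom_pi_injective N k (h3.trans (map_zero _).symm), map_zero]
  exact (LinearMap.lTensor_inj_iff_rTensor_inj _ _).mp h0

/-- the kernel is isomorphic to the module in a periodic resolution -/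
noncomputable def kerEquiv {M F G : Type*} [AddCommGroup M] [Module R M] [AddCommGroup F] [Module R F]
    [AddCommGroup G] [Module R G] (φ : G →ₗ[R] F) (ψ : F →ₗ[R] G) (p : F →ₗ[R] M) (hp : Function.Surjective p)
    (hφp : Function.Exact φ p) (hψφ : Function.Exact ψ φ) (hφψ : Function.Exact φ ψ) :
    LinearMap.ker φ ≃ₗ[R] M :=
  (LinearEquiv.ofEq _ _ hψφ.linearMap_ker_eq) ≪≫ₗ ψ.quotKerEquivRange.symm ≪≫ₗ
    (Submodule.quotEquivOfEq _ _ (hφψ.linearMap_ker_eq.trans hφp.linearMap_ker_eq.symm)) ≪≫ₗ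
      (p.quotKerEquivOfSurjective hp)

end

section main

variable (S : Type u) [CommRing S] [IsRegularLocalRing S] (hS : ringKrullDim S = 2) (f : S)
    (hf : f ≠ 0) (R : Type u) [CommRing R] [IsLocalRing R] (π : S →+* R)
    (hπ : Function.Surjective π) (hker : RingHom.ker π = Ideal.span {f})
    (I J : Ideal R) (n : ℕ) (hIJ : maximalIdeal R ^ n ≤ I ⊔ J)
    (M N : Type u) [AddCommGroup M] [Module R M] [Module.Finite R M] [AddCommGroup N] [Module R N]
    (hI : I ≤ Module.annihilator R M) (hJ : J ≤ Module.annihilator R N)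
    (x : R) (hx : x ∈ maximalIdeal R) (hxM : IsSMulRegular M x)
    (y : R) (hy : y ∈ maximalIdeal R) (hyN : IsSMulRegular N y)

include hS hf hπ hker hIJ hI hJ hx hxM hy hyN in
theorem ext_two : Subsingleton (Ext (ModuleCat.of R M) (ModuleCat.of R N) 2) := by
  obtain ⟨m, k, φ, ψ, p, hp, hφp, hψφ, hφψ⟩ :=
    K84.PlanarMF.exists_periodic S hS f hf R π hπ hker M x hx hxM
  let e := kerEquiv φ ψ p hp hφp hψφ hφψ
  refine subsingleton_ext_two φ p hp hφp N (fun g => hom_eq_zero I J n hIJ ?_ ?_ y hy hyN g)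
  · intro a ha z
    apply e.injective
    rw [map_smul, map_zero]
    exact Module.mem_annihilator.mp (hI ha) _
  · exact fun a ha z => Module.mem_annihilator.mp (hJ ha) _

include hS hf hπ hker hIJ hI hJ hx hxM in
theorem tor_one : Limits.IsZero (((Tor (ModuleCat.{u} R) 1).obj (ModuleCat.of R M)).obj
    (ModuleCat.of R (Module.Dual R N))) := by
  obtain ⟨m, k, φ, ψ, p, hp, hφp, hψφ, hφψ⟩ :=
    K84.PlanarMF.exists_periodic S hS f hf R π hπ hker M x hx hxM
  let e := kerEquiv φ ψ p hp hφp hψφ hφψ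
  rw [K82.TorVanIff.isZero_tor_one_iff]
  refine torVan φ p hp hφp N (fun g => hom_eq_zero J I n (by rwa [sup_comm]) ?_ ?_ x hx ?_ g)
  · exact fun a ha z => Module.mem_annihilator.mp (hJ ha) _
  · intro a ha z
    apply e.injective
    rw [map_smul, map_zero]
    exact Module.mem_annihilator.mp (hI ha) _
  · intro a b hab
    apply e.injective
    apply hxM
    change x • e a = x • e b
    rw [← map_smul, ← map_smul]
    exact congrArg e hab

end main

end K84.PlanarExt
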