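import Groth.Agent.CalgA.RegAB
import Mathlib.LinearAlgebra.Matrix.ToLin
import Mathlib.RingTheory.Finiteness.Cardinality

/-!
# Periodic resolutions over plane curve singularities

`S` regular local of dimension two, `R = S / f`, `M` a finite `R`-module with a regular element in the maximal
ideal: `exists_periodic`: there are maps `φ : R^k → R^n`, `ψ : R^n → R^k`, `p : R^n → M` with `p` surjective,
`ker p = im φ = ker ψ`, `ker φ = im ψ`.
-/

set_option autoImplicit false
universe u

open IsLocalRing

namespace K84.PlanarMF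

open Groth.Agent.CalgA.RegProjDim Groth.Agent.CalgA.RegAB

/-- finite modules with a regular element over a two-dimensional regular local ring have projective dimension `≤ 1` -/
theorem PD_two (S : Type u) [CommRing S] [IsRegularLocalRing S] (hS : ringKrullDim S = 2)
    (M : Type u) [AddCommGroup M] [Module S M] [Module.Finite S M] (x : S) (hx : x ∈ maximalIdeal S)
    (hxM : IsSMulRegular M x) : PD S M 2 := by
  classical
  rcases subsingleton_or_nontrivial M with hM | hM
  · exact PD.of_subsingleton
  have hex : ∃ n : ℕ, PD S M (n + 1) := ⟨2, Groth.Agent.CalgA.RegSerre.PD_of_isRegularLocalRing S 2 hS M⟩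
  let e := Nat.find hex
  have he : PDeq (R := S) M e := by
    refine ⟨Nat.find_spec hex, ?_⟩
    intro hcon
    rcases Nat.eq_zero_or_pos e with h0 | h0
    · rw [h0] at hcon
      have := PD.zero_iff.mp hcon
      exact not_subsingleton M this
    · have := Nat.find_min hex (m := e - 1) (by omega)
      apply this
      rwa [Nat.sub_add_cancel h0]
  have hAB := depth_eq M e he
  have h1 : ((LocCoh.depth S S : ℕ∞) : WithBot ℕ∞) ≤ ringKrullDim S := by
    have := Groth.Agent.Localalg.Depth2.depth_le_supportDim (R := S) S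
    exact this.trans (Module.supportDim_le_ringKrullDim S S)
  have h2 : 1 ≤ LocCoh.depth S M := by
    rw [Groth.Agent.CalgB.DepthLite.one_le_depth_iff]
    intro m hm
    exact hxM (show x • m = x • (0 : M) by rw [hm x hx, smul_zero])
  rw [hS, hAB] at h1
  have h3 : (e : ℕ∞) + LocCoh.depth S M ≤ 2 := WithBot.coe_le_coe.mp h1
  have h4 : (e : ℕ∞) + 1 ≤ 2 := (add_le_add_right h2 _).trans h3
  have h5 : e + 1 ≤ 2 := by exact_mod_cast h4
  exact PD.mono h5 he.1

/-- a finite free resolution of length one -/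
theorem exists_free_resolution (S : Type u) [CommRing S] [IsRegularLocalRing S] (hS : ringKrullDim S = 2)
    (M : Type u) [AddCommGroup M] [Module S M] [Module.Finite S M] (x : S) (hx : x ∈ maximalIdeal S)
    (hxM : IsSMulRegular M x) (n : ℕ) (p : (Fin n → S) →ₗ[S] M) (hp : Function.Surjective p) :
    ∃ (k : ℕ) (φ : (Fin k → S) →ₗ[S] (Fin n → S)), Function.Injective φ ∧ Function.Exact φ p := by
  let K := LinearMap.ker p
  have hF : PD S (Fin n → S) 1 := PD.of_projective le_rfl
  have hK : PD S K 1 := by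
    refine (PD.ses_X₁ K.subtype p K.subtype_injective ?_ hp hF (PD_two S hS M x hx hxM))
    intro v
    exact ⟨fun hv => ⟨⟨v, hv⟩, rfl⟩, fun ⟨w, hw⟩ => hw ▸ w.2⟩
  have hproj : Module.Projective S K := PD.one_iff.mp hK
  have hfree : Module.Free S K := (projective_iff_free_of_finite (R := S) K).mp hproj
  let b := Module.finBasis S K
  refine ⟨_, K.subtype ∘ₗ b.equivFun.symm.toLinearMap, ?_, ?_⟩
  · exact K.subtype_injective.comp b.equivFun.symm.injective
  · intro v
    rw [← LinearMap.mem_ker]
    constructor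
    · intro hv
      exact ⟨b.equivFun ⟨v, hv⟩, by simp⟩
    · rintro ⟨w, rfl⟩
      exact (b.equivFun.symm w).2

/-- reduction of a linear map between finite free modules -/
theorem exists_reduction {S R : Type*} [CommRing S] [CommRing R] (π : S →+* R) {k n : ℕ}
    (φ : (Fin k → S) →ₗ[S] (Fin n → S)) :
    ∃ φ' : (Fin k → R) →ₗ[R] (Fin n → R), ∀ w, φ' (π ∘ w) = π ∘ φ w := by
  refine ⟨Matrix.toLin' ((LinearMap.toMatrix' φ).map π), fun w => ?_⟩
  rw [Matrix.toLin'_apply]
  conv_rhs => rw [← Matrix.toLin'_toMatrix' φ, Matrix.toLin'_apply]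
  ext i
  exact (RingHom.map_mulVec π (LinearMap.toMatrix' φ) w i).symm

theorem exists_lift {S R : Type*} [CommRing S] [CommRing R] (π : S →+* R) (hπ : Function.Surjective π) {k : ℕ}
    (w : Fin k → R) : ∃ v : Fin k → S, π ∘ v = w :=
  ⟨fun i => (hπ (w i)).choose, funext fun i => (hπ (w i)).choose_spec⟩

/-- the periodic resolution -/
theorem exists_periodic (S : Type u) [CommRing S] [IsRegularLocalRing S] (hS : ringKrullDim S = 2) (f : S)
    (hf : f ≠ 0) (R : Type u) [CommRing R] [IsLocalRing R] (π : S →+* R)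
    (hπ : Function.Surjective π) (hker : RingHom.ker π = Ideal.span {f})
    (M : Type u) [AddCommGroup M] [Module R M] [Module.Finite R M]
    (x : R) (hx : x ∈ maximalIdeal R) (hxM : IsSMulRegular M x) :
    ∃ (n k : ℕ) (φ : (Fin k → R) →ₗ[R] (Fin n → R)) (ψ : (Fin n → R) →ₗ[R] (Fin k → R))
      (p : (Fin n → R) →ₗ[R] M), Function.Surjective p ∧ Function.Exact φ p ∧ Function.Exact ψ φ ∧
        Function.Exact φ ψ := by
  have hdom : IsDomain S := Groth.Agent.CalgA.RegBasic.isDomain S
  have hfker : π f = 0 := by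
    rw [← RingHom.mem_ker, hker]
    exact Ideal.mem_span_singleton_self f
  have hloc : IsLocalHom π := by
    apply IsLocalHom.of_surjective _ hπ
  obtain ⟨n, p, hp⟩ := Module.Finite.exists_fin' R M
  let _ : Module S M := Module.compHom M π
  have hsmul : ∀ (s : S) (m : M), s • m = π s • m := fun s m => rfl
  have hfin : Module.Finite S M := by
    let _ : Algebra S R := π.toAlgebra
    have : IsScalarTower S R M := ⟨fun s r m => by rw [hsmul, ← mul_smul]; rfl⟩
    have : Module.Finite S R := Module.Finite.of_surjective (Algebra.linearMap S R) hπ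
    exact Module.Finite.trans R M
  obtain ⟨x', rfl⟩ := hπ x
  have hx' : x' ∈ maximalIdeal S := by
    rw [mem_maximalIdeal, mem_nonunits_iff] at hx ⊢
    exact fun h => hx (h.map π)
  have hx'M : IsSMulRegular M x' := fun a b h => hxM h
  let p' : (Fin n → S) →ₗ[S] M :=
    { toFun := fun v => p (π ∘ v)
      map_add' := fun v w => by
        rw [← map_add]
        congr 1
        ext i
        exact map_add π _ _
      map_smul' := fun s v => by
        rw [RingHom.id_apply, hsmul, ← map_smul]
        congr 1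
        ext i
        exact map_mul π _ _ }
  have hp' : Function.Surjective p' := by
    intro m
    obtain ⟨w, hw⟩ := hp m
    obtain ⟨v, rfl⟩ := exists_lift π hπ w
    exact ⟨v, hw⟩
  obtain ⟨k, φ, hφ, hex⟩ := exists_free_resolution S hS M x' hx' hx'M n p' hp'
  -- the other half of the matrix factorization
  have hfM : ∀ v : Fin n → S, p' (f • v) = 0 := by
    intro v
    rw [map_smul, hsmul, hfker, zero_smul]
  obtain ⟨ψ, hψ⟩ : ∃ ψ : (Fin n → S) →ₗ[S] (Fin k → S), ∀ v, φ (ψ v) = f • v := by
    let e := LinearEquiv.ofInjective φ hφ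
    let g : (Fin n → S) →ₗ[S] LinearMap.range φ := LinearMap.codRestrict _ (f • LinearMap.id) (fun v => by
      exact (hex (f • v)).mp (hfM v))
    refine ⟨e.symm.toLinearMap ∘ₗ g, fun v => ?_⟩
    have h1 : (e (e.symm (g v)) : Fin n → S) = f • v := by rw [LinearEquiv.apply_symm_apply]; rfl
    exact h1
  have hψφ : ∀ w, ψ (φ w) = f • w := by
    intro w
    apply hφ
    rw [hψ, map_smul]
  obtain ⟨φ', hφ'⟩ := exists_reduction π φ
  obtain ⟨ψ', hψ'⟩ := exists_reduction π ψ
  have hπf : ∀ {l : ℕ} (v : Fin l → S), π ∘ (f • v) = 0 := by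
    intro l v
    ext i
    change π (f * v i) = 0
    rw [map_mul, hfker, zero_mul]
  have hπ0 : ∀ {l : ℕ} (v : Fin l → S), π ∘ v = 0 → ∃ w, v = f • w := by
    intro l v hv
    have h1 : ∀ i, ∃ c, v i = f * c := by
      intro i
      have h2 : v i ∈ RingHom.ker π := congrFun hv i
      rw [hker, Ideal.mem_span_singleton] at h2
      exact h2
    choose w hw using h1
    exact ⟨w, funext hw⟩
  have hfinj : ∀ {l : ℕ} (v w : Fin l → S), f • v = f • w → v = w := by
    intro l v w h
    ext i
    exact mul_left_cancel₀ hf (congrFun h i)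
  refine ⟨n, k, φ', ψ', p, hp, ?_, ?_, ?_⟩
  · -- ker p = im φ
    intro w
    obtain ⟨v, rfl⟩ := exists_lift π hπ w
    constructor
    · intro h
      obtain ⟨u, rfl⟩ := (hex v).mp h
      exact ⟨π ∘ u, hφ' u⟩
    · rintro ⟨u, hu⟩
      obtain ⟨u, rfl⟩ := exists_lift π hπ u
      rw [← hu, hφ']
      exact (hex (φ u)).mpr ⟨u, rfl⟩
  · -- ker φ = im ψ
    intro w
    obtain ⟨v, rfl⟩ := exists_lift π hπ w
    constructor
    · intro h
      rw [hφ'] at h
      obtain ⟨u, hu⟩ := hπ0 _ h
      refine ⟨π ∘ u, ?_⟩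
      rw [hψ']
      congr 1
      apply hφ
      rw [hψ, hu]
    · rintro ⟨u, hu⟩
      obtain ⟨u, rfl⟩ := exists_lift π hπ u
      rw [← hu, hψ', hφ', hψ, hπf]
  · -- ker ψ = im φ
    intro w
    obtain ⟨v, rfl⟩ := exists_lift π hπ w
    constructor
    · intro h
      rw [hψ'] at h
      obtain ⟨u, hu⟩ := hπ0 _ h
      refine ⟨π ∘ u, ?_⟩
      rw [hφ']
      congr 1
      apply hfinj
      rw [← hψ v, hu, map_smul]
    · rintro ⟨u, hu⟩
      obtain ⟨u, rfl⟩ := exists_lift π hπ u
      rw [← hu, hφ', hψ', hψφ, hπf]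

end K84.PlanarMF
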