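import Mathlib.RingTheory.Artinian.Module
import Mathlib.LinearAlgebra.TensorProduct.RightExactness
import Mathlib.LinearAlgebra.TensorProduct.Pi
import Mathlib.Algebra.Module.FinitePresentation

/-!
# Towers of Artinian modules: the Mittag-Leffler argument and tensor products

`exists_compatible` is adapted from `Groth.Agent.FormalA.KLim` (same statement, lighter imports).
-/

set_option autoImplicit false

namespace K84.Tower

universe u v w

open TensorProduct

section ML

variable {A : Type u} [CommRing A] {W : ℕ → Type v} {V : ℕ → Type w}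
  [∀ n, AddCommGroup (W n)] [∀ n, Module A (W n)]
  [∀ n, AddCommGroup (V n)] [∀ n, Module A (V n)]
  (t : ∀ n m : ℕ, n ≤ m → (W m →ₗ[A] W n)) (s : ∀ n m : ℕ, n ≤ m → (V m →ₗ[A] V n))
  (ht : ∀ (n m k : ℕ) (h : n ≤ m) (h' : m ≤ k) (x : W k), t n m h (t m k h' x) =
    t n k (h.trans h') x)
  (φ : ∀ n, W n →ₗ[A] V n)
  (hφ : ∀ (n m : ℕ) (h : n ≤ m) (x : W m), φ n (t n m h x) = s n m h (φ m x))

include ht hφ in
/-- Mittag-Leffler for towers of Artinian modules: a compatible family whose members are in the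
images of the `φ n` comes from a compatible family. -/
theorem exists_compatible [∀ n, IsArtinian A (W n)] (v : ∀ n, V n)
    (hv : ∀ (n m : ℕ) (h : n ≤ m), s n m h (v m) = v n) (hr : ∀ n, ∃ w, φ n w = v n) :
    ∃ w : ∀ n, W n, (∀ n, t n (n + 1) (Nat.le_succ n) (w (n + 1)) = w n) ∧
      ∀ n, φ n (w n) = v n := by
  -- eventual images
  let P : ∀ n, W n → Prop := fun n w => ∀ (m : ℕ) (h : n ≤ m), ∃ e : W m, φ m e = v m ∧
    t n m h e = w
  have hker : ∀ (n m : ℕ) (h : n ≤ m) (x : W m), x ∈ LinearMap.ker (φ m) →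
      t n m h x ∈ LinearMap.ker (φ n) := by
    intro n m h x hx
    rw [LinearMap.mem_ker] at hx ⊢
    rw [hφ, hx, map_zero]
  have key : ∀ n, ∃ (N : ℕ) (hN : n ≤ N), ∀ (M : ℕ) (hM : N ≤ M) (e : W M), φ M e = v M →
      P n (t n M (hN.trans hM) e) := by
    intro n
    -- the decreasing sequence of the images of the kernels
    let S : ℕ →o (Submodule A (W n))ᵒᵈ :=
      { toFun := fun k => OrderDual.toDual
          ((LinearMap.ker (φ (n + k))).map (t n (n + k) (Nat.le_add_right n k)))
        monotone' := by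
          intro k l hkl
          change (LinearMap.ker (φ (n + l))).map _ ≤ (LinearMap.ker (φ (n + k))).map _
          rintro _ ⟨x, hx, rfl⟩
          refine ⟨t (n + k) (n + l) (by omega) x, hker _ _ _ x hx, ?_⟩
          rw [ht] }
    obtain ⟨k, hk⟩ := IsArtinian.monotone_stabilizes S
    refine ⟨n + k, Nat.le_add_right n k, fun M hM e he => ?_⟩
    intro m h
    obtain ⟨l, rfl⟩ := Nat.exists_eq_add_of_le h
    -- it suffices to treat large `m`
    obtain ⟨L, hkL, hlL, hML⟩ : ∃ L, k ≤ L ∧ l ≤ L ∧ M ≤ n + L :=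
      ⟨max k (max l (M - n)), by omega, by omega, by omega⟩
    obtain ⟨e₁, he₁⟩ := hr (n + L)
    have hx : t (n + k) M hM e - t (n + k) (n + L) (by omega) e₁ ∈ LinearMap.ker (φ (n + k)) := by
      rw [LinearMap.mem_ker, map_sub, hφ, hφ, he, he₁, hv, hv, sub_self]
    have hmem : t n (n + k) (Nat.le_add_right n k)
        (t (n + k) M hM e - t (n + k) (n + L) (by omega) e₁) ∈ OrderDual.ofDual (S k) :=
      ⟨_, hx, rfl⟩
    rw [hk L hkL] at hmem
    obtain ⟨x, hxk, hxe⟩ := hmem
    rw [map_sub, ht, ht] at hxe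
    refine ⟨t (n + l) (n + L) (by omega) (e₁ + x), ?_, ?_⟩
    · have hxk' : φ (n + L) x = 0 := hxk
      rw [hφ, map_add, he₁, hxk', add_zero, hv]
    · rw [ht, map_add, hxe]
      abel
  have step : ∀ n (w : W n), P n w → ∃ w' : W (n + 1), P (n + 1) w' ∧
      t n (n + 1) (Nat.le_succ n) w' = w := by
    intro n w hw
    obtain ⟨N, hN, hP⟩ := key (n + 1)
    obtain ⟨e, he, hew⟩ := hw N (by omega)
    refine ⟨t (n + 1) N hN e, hP N le_rfl e he, ?_⟩
    rw [ht, hew]
  have base : ∃ w : W 0, P 0 w := by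
    obtain ⟨N, hN, hP⟩ := key 0
    obtain ⟨e, he⟩ := hr N
    exact ⟨_, hP N le_rfl e he⟩
  choose f hf1 hf2 using step
  let q : ∀ n, {w : W n // P n w} := fun n =>
    Nat.rec ⟨base.choose, base.choose_spec⟩ (fun n w => ⟨f n w.1 w.2, hf1 n w.1 w.2⟩) n
  refine ⟨fun n => (q n).1, fun n => hf2 n (q n).1 (q n).2, fun n => ?_⟩
  obtain ⟨e, he, heq⟩ := (q n).2 n le_rfl
  change φ n (q n).1 = v n
  rw [← heq, hφ, he, hv]

include ht hφ in
/-- the same with compatibility for all pairs -/
theorem exists_compatible' [∀ n, IsArtinian A (W n)] (ht1 : ∀ n x, t n n le_rfl x = x) (v : ∀ n, V n)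
    (hv : ∀ (n m : ℕ) (h : n ≤ m), s n m h (v m) = v n) (hr : ∀ n, ∃ w, φ n w = v n) :
    ∃ w : ∀ n, W n, (∀ n m h, t n m h (w m) = w n) ∧ ∀ n, φ n (w n) = v n := by
  obtain ⟨w, hw1, hw2⟩ := exists_compatible t s ht φ hφ v hv hr
  refine ⟨w, ?_, hw2⟩
  intro n m h
  induction m, h using Nat.le_induction with
  | base => exact ht1 n _
  | succ m h ih => rw [← ht n m (m + 1) h (Nat.le_succ m), hw1, ih]

end ML

section Tensor

variable {R : Type u} [CommRing R] {M : ℕ → Type v} [∀ n, AddCommGroup (M n)] [∀ n, Module R (M n)]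
  (t : ∀ n m : ℕ, n ≤ m → (M m →ₗ[R] M n))
  (ht : ∀ (n m k : ℕ) (h : n ≤ m) (h' : m ≤ k) (x : M k), t n m h (t m k h' x) =
    t n k (h.trans h') x)
  (ht1 : ∀ n x, t n n le_rfl x = x)
  {L : Type v} [AddCommGroup L] [Module R L] (π : ∀ n, L →ₗ[R] M n)
  (hext : ∀ x : L, (∀ n, π n x = 0) → x = 0)
  (hex : ∀ v : ∀ n, M n, (∀ n m h, t n m h (v m) = v n) → ∃ x : L, ∀ n, π n x = v n)

theorem piScalarRight_rTensor {X Y : Type v} [AddCommGroup X] [Module R X] [AddCommGroup Y] [Module R Y]
    (f : X →ₗ[R] Y) (a : ℕ) (z : X ⊗[R] (Fin a → R)) (i : Fin a) :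
    TensorProduct.piScalarRight R R Y (Fin a) (f.rTensor (Fin a → R) z) i =
      f (TensorProduct.piScalarRight R R X (Fin a) z i) := by
  induction z using TensorProduct.induction_on with
  | zero => simp
  | tmul x y => simp
  | add x y hx hy => simp only [map_add, Pi.add_apply, hx, hy]

include hext in
theorem free_ext (a : ℕ) (z : L ⊗[R] (Fin a → R)) (hz : ∀ n, (π n).rTensor (Fin a → R) z = 0) : z = 0 := by
  apply (TensorProduct.piScalarRight R R L (Fin a)).injective
  rw [map_zero]
  ext i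
  apply hext
  intro n
  rw [← piScalarRight_rTensor, hz n, map_zero, Pi.zero_apply]

include hex in
theorem free_exists (a : ℕ) (v : ∀ n, M n ⊗[R] (Fin a → R))
    (hv : ∀ n m h, (t n m h).rTensor (Fin a → R) (v m) = v n) :
    ∃ z : L ⊗[R] (Fin a → R), ∀ n, (π n).rTensor (Fin a → R) z = v n := by
  have h1 : ∀ i : Fin a, ∃ x : L, ∀ n, π n x = TensorProduct.piScalarRight R R (M n) (Fin a) (v n) i := by
    intro i
    apply hex
    intro n m h
    rw [← piScalarRight_rTensor, hv]
  choose x hx using h1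
  refine ⟨(TensorProduct.piScalarRight R R L (Fin a)).symm x, fun n => ?_⟩
  apply (TensorProduct.piScalarRight R R (M n) (Fin a)).injective
  ext i
  rw [piScalarRight_rTensor, LinearEquiv.apply_symm_apply, hx]

theorem rTensor_lTensor {X Y P Q : Type*} [AddCommGroup X] [Module R X] [AddCommGroup Y] [Module R Y]
    [AddCommGroup P] [Module R P] [AddCommGroup Q] [Module R Q]
    (f : X →ₗ[R] Y) (g : P →ₗ[R] Q) (z : X ⊗[R] P) :
    f.rTensor Q (g.lTensor X z) = g.lTensor Y (f.rTensor P z) := by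
  rw [← LinearMap.comp_apply, ← LinearMap.comp_apply, LinearMap.rTensor_comp_lTensor,
    LinearMap.lTensor_comp_rTensor]

theorem isArtinian_tensor (X : Type v) [AddCommGroup X] [Module R X] [IsArtinian R X] (a : ℕ) :
    IsArtinian R (X ⊗[R] (Fin a → R)) :=
  isArtinian_of_linearEquiv (TensorProduct.piScalarRight R R X (Fin a)).symm

variable {N : Type v} [AddCommGroup N] [Module R N] {a b : ℕ} (α : (Fin a → R) →ₗ[R] (Fin b → R))
    (β : (Fin b → R) →ₗ[R] N) (hβ : Function.Surjective β) (hαβ : Function.Exact α β)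

include ht ht1 hext hex hβ hαβ in
theorem tensor_ext (hπ : ∀ n m h x, t n m h (π m x) = π n x) [∀ n, IsArtinian R (M n)] (z : L ⊗[R] N)
    (hz : ∀ n, (π n).rTensor N z = 0) : z = 0 := by
  obtain ⟨w, rfl⟩ := LinearMap.lTensor_surjective L hβ z
  have hT := fun n => isArtinian_tensor (R := R) (M n) a
  have hr : ∀ n, ∃ w', α.lTensor (M n) w' = (π n).rTensor (Fin b → R) w := by
    intro n
    have h1 := lTensor_exact (M n) hαβ hβ
    have h2 : β.lTensor (M n) ((π n).rTensor (Fin b → R) w) = 0 := by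
      rw [← rTensor_lTensor, hz n]
    exact (h1 _).mp h2
  obtain ⟨v, hv1, hv2⟩ := exists_compatible' (fun n m h => (t n m h).rTensor (Fin a → R))
    (fun n m h => (t n m h).rTensor (Fin b → R))
    (by
      intro n m k h h' x
      rw [← LinearMap.comp_apply, ← LinearMap.rTensor_comp]
      congr 2
      ext y
      exact ht n m k h h' y)
    (fun n => α.lTensor (M n))
    (by
      intro n m h x
      rw [← rTensor_lTensor])
    (by
      intro n x
      have : t n n le_rfl = LinearMap.id := by ext y; exact ht1 n y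
      rw [this, LinearMap.rTensor_id, LinearMap.id_apply])
    (fun n => (π n).rTensor (Fin b → R) w)
    (by
      intro n m h
      rw [← LinearMap.comp_apply, ← LinearMap.rTensor_comp]
      congr 2
      ext y
      exact hπ n m h y)
    hr
  obtain ⟨v', hv'⟩ := free_exists t π hex a v hv1
  have h3 : w = α.lTensor L v' := by
    rw [← sub_eq_zero]
    apply free_ext π hext
    intro n
    rw [map_sub, rTensor_lTensor, hv', hv2, sub_self]
  rw [h3]
  exact (lTensor_exact L hαβ hβ _).mpr ⟨v', rfl⟩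

include ht ht1 hex hβ in
theorem tensor_exists [∀ n, IsArtinian R (M n)] (y : ∀ n, M n ⊗[R] N)
    (hy : ∀ n m h, (t n m h).rTensor N (y m) = y n) :
    ∃ z : L ⊗[R] N, ∀ n, (π n).rTensor N z = y n := by
  have hT := fun n => isArtinian_tensor (R := R) (M n) b
  obtain ⟨v, hv1, hv2⟩ := exists_compatible' (fun n m h => (t n m h).rTensor (Fin b → R))
    (fun n m h => (t n m h).rTensor N)
    (by
      intro n m k h h' x
      rw [← LinearMap.comp_apply, ← LinearMap.rTensor_comp]
      congr 2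
      ext y
      exact ht n m k h h' y)
    (fun n => β.lTensor (M n))
    (by
      intro n m h x
      rw [← rTensor_lTensor])
    (by
      intro n x
      have : t n n le_rfl = LinearMap.id := by ext y; exact ht1 n y
      rw [this, LinearMap.rTensor_id, LinearMap.id_apply])
    y hy (fun n => LinearMap.lTensor_surjective _ hβ _)
  obtain ⟨v', hv'⟩ := free_exists t π hex b v hv1
  refine ⟨β.lTensor L v', fun n => ?_⟩
  rw [rTensor_lTensor, hv', hv2]

end Tensor

end K84.Tower
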